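import Cfsg.Agent.H35.HT.Val
import Cfsg.Agent.H749.TwoCmp
import Cfsg.Agent.H477.HC.RowO

/-!
# The number of totally singular `2 c`-spaces, `p ∣ q ^ c + 1` (helper35)

`wSp`, `wPlus`, `wMinus`: the weights.  `v_iso_sp` etc.: `v_p |F.iso| = w κ + v_p (w!)`.
`om_sp`, `om_odd`, `om_plus`, `om_minus`: `v_p |Om (2 c)| = κ` for weights `w = -1` modulo `p`, and for rank `2 c`.
-/

set_option autoImplicit false
set_option linter.unusedSectionVars false
set_option linter.unusedVariables false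

namespace Cfsg.Agent.H35.HT.Idx

open Finset Cfsg.Agent.H35.HT.Val Cfsg.Agent.H477.HC Cfsg.Agent.H749.Two Module

universe u v w

/-- The weight: symplectic and odd orthogonal. -/
def wSp (d n : ℕ) : ℕ := n / d

/-- The weight: plus type, dimension `2 n`. -/
def wPlus (d n : ℕ) : ℕ := if d ∣ n ∧ Odd (n / d) then n / d - 1 else n / d

/-- The weight: minus type, dimension `2 (m + 1)`. -/
def wMinus (d m : ℕ) : ℕ := if d ∣ m + 1 ∧ Even ((m + 1) / d) then (m + 1) / d - 1 else (m + 1) / d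

theorem wSp_add {d : ℕ} (hd : 0 < d) (n : ℕ) : wSp d (2 * d + n) = wSp d n + 2 := by
  unfold wSp
  rw [mul_comm, add_comm, Nat.add_mul_div_left _ _ hd]

theorem wPlus_add {d : ℕ} (hd : 0 < d) (n : ℕ) : wPlus d (2 * d + n) = wPlus d n + 2 := by
  unfold wPlus
  have e : (2 * d + n) / d = n / d + 2 := by rw [mul_comm, add_comm, Nat.add_mul_div_left _ _ hd]
  have e2 : d ∣ 2 * d + n ↔ d ∣ n := Nat.dvd_add_right (Dvd.intro_left 2 rfl)
  have e3 : Odd (n / d + 2) ↔ Odd (n / d) := by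
    rw [Nat.odd_add]
    simp
  simp only [e, e2, e3]
  split_ifs with h
  · have := h.2.pos
    omega
  · rfl

theorem wMinus_add {d : ℕ} (hd : 0 < d) (n : ℕ) : wMinus d (2 * d + n) = wMinus d n + 2 := by
  unfold wMinus
  have e : (2 * d + n + 1) / d = (n + 1) / d + 2 := by
    rw [mul_comm, add_assoc, add_comm, Nat.add_mul_div_left _ _ hd]
  have e2 : d ∣ 2 * d + n + 1 ↔ d ∣ n + 1 := by
    rw [add_assoc]
    exact Nat.dvd_add_right (Dvd.intro_left 2 rfl)
  have e3 : Even ((n + 1) / d + 2) ↔ Even ((n + 1) / d) := by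
    rw [Nat.even_add]
    simp
  simp only [e, e2, e3]
  split_ifs with h
  · obtain ⟨⟨W, hW⟩, he⟩ := h
    rw [hW, Nat.mul_div_cancel_left _ hd]
    have hW0 : 0 < W := by
      rcases Nat.eq_zero_or_pos W with rfl | h1
      · omega
      · exact h1
    omega
  · rfl

section arith

variable {p : ℕ} [hp : Fact p.Prime] {Q d : ℕ}

theorem v_two (hp1 : Odd p) : padicValNat p 2 = 0 := by
  refine padicValNat.eq_zero_of_not_dvd fun h => ?_
  have h3 := (Nat.prime_dvd_prime_iff_eq hp.out Nat.prime_two).1 h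
  rw [h3] at hp1
  exact absurd hp1 (by decide)

theorem v_sq (hQ : 2 ≤ Q) {k : ℕ} (hk : 0 < k) :
    (padicValNat p (Q ^ (2 * k) - 1) : ℤ) = A p Q k + B p Q k := by
  have h4 : 1 < Q ^ k := Nat.one_lt_pow hk.ne' (by omega)
  have e2 : Q ^ (2 * k) - 1 = (Q ^ k + 1) * (Q ^ k - 1) := by
    rw [mul_comm 2 k, pow_mul]
    have := Nat.sq_sub_sq (Q ^ k) 1
    rwa [one_pow] at this
  rw [e2, padicValNat.mul (by omega) (by omega), A_nat hQ, B_nat]
  push_cast
  ring

theorem prod_ne (hQ : 2 ≤ Q) (m : ℕ) : ∏ i ∈ range m, (Q ^ (2 * (i + 1)) - 1) ≠ 0 := by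
  rw [Finset.prod_ne_zero_iff]
  intro i _
  have : 1 < Q ^ (2 * (i + 1)) := Nat.one_lt_pow (by omega) (by omega)
  omega

theorem v_prod (hQ : 2 ≤ Q) (m : ℕ) :
    (padicValNat p (∏ i ∈ range m, (Q ^ (2 * (i + 1)) - 1)) : ℤ) = TT p Q m := by
  induction m with
  | zero =>
    unfold TT
    simp
  | succ m ih =>
    have : 1 < Q ^ (2 * (m + 1)) := Nat.one_lt_pow (by omega) (by omega)
    rw [prod_range_succ, padicValNat.mul (prod_ne hQ m) (by omega), TT_succ, ← ih,
      ← v_sq hQ (Nat.succ_pos m)]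
    push_cast
    rfl

theorem v_unit_mul {x y : ℕ} (hx : padicValNat p x = 0) (hx0 : x ≠ 0) : padicValNat p (x * y) = padicValNat p y := by
  rcases Nat.eq_zero_or_pos y with rfl | hy
  · simp
  · rw [padicValNat.mul hx0 hy.ne', hx, zero_add]

theorem v_pow_unit (hq : ¬ p ∣ Q) (s : ℕ) : padicValNat p (Q ^ s) = 0 :=
  padicValNat.eq_zero_of_not_dvd fun h => hq (hp.out.dvd_of_dvd_pow h)

/-- The order formula, plus type. -/
theorem TT_plus (hQ : 2 ≤ Q) (hd : orderOf (Q : ZMod p) = 2 * d) (hd0 : 0 < d) (m : ℕ) :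
    TT p Q m - B p Q m = (wPlus d m : ℤ) * B p Q d + (padicValNat p (wPlus d m).factorial : ℤ) := by
  rw [TT_eq hQ hd hd0]
  unfold wPlus
  split_ifs with h
  · obtain ⟨⟨W, hW⟩, ho⟩ := h
    rw [hW, Nat.mul_div_cancel_left _ hd0] at ho ⊢
    obtain ⟨W, rfl⟩ : ∃ e, W = e + 1 := ⟨W - 1, by have := ho.pos; omega⟩
    rw [B_mul hd hd0, if_pos ho, Nat.add_sub_cancel, Nat.factorial_succ,
      padicValNat.mul (by omega) (Nat.factorial_ne_zero _)]
    push_cast
    ring
  · have : B p Q m = 0 := by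
      by_cases hdn : d ∣ m
      · obtain ⟨W, hW⟩ := hdn
        rw [hW, B_mul hd hd0, if_neg]
        intro ho
        refine h ⟨⟨W, hW⟩, ?_⟩
        rwa [hW, Nat.mul_div_cancel_left _ hd0]
      · exact B_not hd hd0 hdn
    rw [this, sub_zero]

/-- The order formula, minus type. -/
theorem TT_minus (hQ : 2 ≤ Q) (hd : orderOf (Q : ZMod p) = 2 * d) (hd0 : 0 < d) (m : ℕ) :
    TT p Q m + B p Q (m + 1) = (wMinus d m : ℤ) * B p Q d + (padicValNat p (wMinus d m).factorial : ℤ) := by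
  have e : TT p Q m + B p Q (m + 1) = TT p Q (m + 1) - A p Q (m + 1) := by
    rw [TT_succ]; ring
  rw [e, TT_eq hQ hd hd0]
  unfold wMinus
  split_ifs with h
  · obtain ⟨⟨W, hW⟩, ho⟩ := h
    rw [hW, Nat.mul_div_cancel_left _ hd0] at ho ⊢
    have hW0 : 0 < W := by
      rcases Nat.eq_zero_or_pos W with rfl | h1
      · omega
      · exact h1
    obtain ⟨W, rfl⟩ : ∃ e, W = e + 1 := ⟨W - 1, by omega⟩
    rw [A_mul hQ hd hd0 hW0, if_pos ho, Nat.add_sub_cancel, Nat.factorial_succ,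
      padicValNat.mul (by omega) (Nat.factorial_ne_zero _)]
    push_cast
    ring
  · have : A p Q (m + 1) = 0 := by
      by_cases hdn : d ∣ m + 1
      · obtain ⟨W, hW⟩ := hdn
        have hW0 : 0 < W := by
          rcases Nat.eq_zero_or_pos W with rfl | h1
          · omega
          · exact h1
        rw [hW, A_mul hQ hd hd0 hW0, if_neg]
        intro ho
        refine h ⟨⟨W, hW⟩, ?_⟩
        rwa [hW, Nat.mul_div_cancel_left _ hd0]
      · exact A_not hQ hd hdn
    rw [this, sub_zero]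

/-- Two steps of the factorial. -/
theorem fact_two (w : ℕ) : (padicValNat p (w + 2).factorial : ℤ) =
    (padicValNat p w.factorial : ℤ) + (padicValNat p (w + 1) : ℤ) + (padicValNat p (w + 2) : ℤ) := by
  rw [Nat.factorial_succ, padicValNat.mul (by omega) (Nat.factorial_ne_zero _), Nat.factorial_succ,
    padicValNat.mul (by omega) (Nat.factorial_ne_zero _), Nat.cast_add, Nat.cast_add]
  ring_nf

end arith

section groups

variable (K : Type u) [Field K] [Finite K] {p : ℕ} [hp : Fact p.Prime] {d : ℕ}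

theorem two_le_card : 2 ≤ Nat.card K := Finite.one_lt_card

theorem v_iso_sp (hd : orderOf ((Nat.card K : ℕ) : ZMod p) = 2 * d) (hd0 : 0 < d) (m : ℕ) :
    (padicValNat p (Nat.card (CForm.spF K m).iso) : ℤ) =
      (wSp d m : ℤ) * B p (Nat.card K) d + (padicValNat p (wSp d m).factorial : ℤ) := by
  have hq := not_dvd hd hd0
  have hQ := two_le_card K
  rw [card_spF, v_unit_mul (v_pow_unit hq _) (pow_ne_zero _ (by omega)), v_prod hQ, TT_eq hQ hd hd0]
  rfl

theorem v_iso_odd (h2 : (2 : K) ≠ 0) (ho : Odd (Nat.card K)) (hd : orderOf ((Nat.card K : ℕ) : ZMod p) = 2 * d)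
    (hd0 : 0 < d) (m : ℕ) :
    (padicValNat p (Nat.card (CForm.oddF K m h2).iso) : ℤ) =
      (wSp d m : ℤ) * B p (Nat.card K) d + (padicValNat p (wSp d m).factorial : ℤ) := by
  have hq := not_dvd hd hd0
  have hQ := two_le_card K
  rw [card_oddF K h2 ho, mul_assoc, v_unit_mul (v_two (odd_of hd hd0)) (by norm_num),
    v_unit_mul (v_pow_unit hq _) (pow_ne_zero _ (by omega)), v_prod hQ, TT_eq hQ hd hd0]
  rfl

theorem card_plusF_zero : Nat.card (CForm.plusF K 0).iso = 1 := by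
  rw [Nat.card_eq_one_iff_unique]
  refine ⟨⟨fun a b => ?_⟩, ⟨1⟩⟩
  apply Subtype.ext
  apply LinearEquiv.ext
  intro v
  exact Subsingleton.elim _ _

theorem v_iso_plus (hd : orderOf ((Nat.card K : ℕ) : ZMod p) = 2 * d) (hd0 : 0 < d) (m : ℕ) :
    (padicValNat p (Nat.card (CForm.plusF K m).iso) : ℤ) =
      (wPlus d m : ℤ) * B p (Nat.card K) d + (padicValNat p (wPlus d m).factorial : ℤ) := by
  have hq := not_dvd hd hd0
  have hQ := two_le_card K
  have hp1 := odd_of hd hd0
  rw [← TT_plus hQ hd hd0]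
  rcases Nat.eq_zero_or_pos m with rfl | hm
  · rw [card_plusF_zero, B_zero hp1]
    unfold TT
    simp
  · obtain ⟨m, rfl⟩ : ∃ e, m = e + 1 := ⟨m - 1, by omega⟩
    have h1 : 1 < Nat.card K ^ (m + 1) := Nat.one_lt_pow (by omega) (by omega)
    rw [card_plusF K hm, mul_assoc, mul_assoc, v_unit_mul (v_two hp1) (by norm_num),
      v_unit_mul (v_pow_unit hq _) (pow_ne_zero _ (by omega)), Nat.add_sub_cancel,
      padicValNat.mul (by omega) (prod_ne hQ m), Nat.cast_add, v_prod hQ, ← A_nat hQ, TT_succ]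
    ring

theorem v_iso_minus (hd : orderOf ((Nat.card K : ℕ) : ZMod p) = 2 * d) (hd0 : 0 < d) (m : ℕ) (a b : K)
    (hab : ∀ z₁ z₂ : K, z₁ ^ 2 + a * z₁ * z₂ + b * z₂ ^ 2 = 0 → z₁ = 0 ∧ z₂ = 0) :
    (padicValNat p (Nat.card (CForm.minusF K m a b hab).iso) : ℤ) =
      (wMinus d m : ℤ) * B p (Nat.card K) d + (padicValNat p (wMinus d m).factorial : ℤ) := by
  have hq := not_dvd hd hd0
  have hQ := two_le_card K
  have hp1 := odd_of hd hd0
  rw [← TT_minus hQ hd hd0, card_minusF, mul_assoc, mul_assoc, v_unit_mul (v_two hp1) (by norm_num),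
    v_unit_mul (v_pow_unit hq _) (pow_ne_zero _ (by omega)), padicValNat.mul (by omega) (prod_ne hQ m),
    Nat.cast_add, v_prod hQ, ← B_nat]
  ring

/-- The general linear group of degree `2 d`. -/
theorem v_GL (hd : orderOf ((Nat.card K : ℕ) : ZMod p) = 2 * d) (hd0 : 0 < d) :
    (padicValNat p (Nat.card (GL (Fin (2 * d)) K)) : ℤ) = B p (Nat.card K) d := by
  have hq := not_dvd hd hd0
  have hQ := two_le_card K
  have hp1 := odd_of hd hd0
  obtain ⟨s, hs⟩ := card_GL_eq K (2 * d) (by omega)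
  have h1 : ∀ k, k ≤ 2 * d → padicValNat p (∏ i ∈ Finset.Ico 1 k, (Nat.card K ^ i - 1)) = 0 := by
    intro k hk
    induction k with
    | zero => simp
    | succ k ih =>
      rcases Nat.eq_zero_or_pos k with rfl | hk0
      · simp
      · rw [Finset.prod_Ico_succ_top hk0]
        have h5 : 1 < Nat.card K ^ k := Nat.one_lt_pow hk0.ne' (by omega)
        have h6 : (∏ i ∈ Finset.Ico 1 k, (Nat.card K ^ i - 1)) ≠ 0 := by
          rw [Finset.prod_ne_zero_iff]
          intro i hi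
          have : 1 < Nat.card K ^ i := Nat.one_lt_pow (by have := (Finset.mem_Ico.1 hi).1; omega) (by omega)
          omega
        rw [padicValNat.mul h6 (by omega), ih (by omega), zero_add]
        have h7 : A p (Nat.card K) k = 0 := by
          by_cases hdk : d ∣ k
          · obtain ⟨u, hu⟩ := hdk
            have hu0 : 0 < u := by
              rcases Nat.eq_zero_or_pos u with rfl | h1
              · omega
              · exact h1
            have hu2 : u < 2 := by
              by_contra h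
              have : d * 2 ≤ d * u := Nat.mul_le_mul_left _ (by omega)
              omega
            obtain rfl : u = 1 := by omega
            rw [hu, A_mul hQ hd hd0 hu0, if_neg (by decide)]
          · exact A_not hQ hd hdk
        rw [A_nat hQ] at h7
        exact_mod_cast h7
  have h8 : 1 < Nat.card K ^ (2 * d) := Nat.one_lt_pow (by omega) (by omega)
  have h6 : (∏ i ∈ Finset.Ico 1 (2 * d), (Nat.card K ^ i - 1)) ≠ 0 := by
    rw [Finset.prod_ne_zero_iff]
    intro i hi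
    have : 1 < Nat.card K ^ i := Nat.one_lt_pow (by have := (Finset.mem_Ico.1 hi).1; omega) (by omega)
    omega
  have h9 := A_mul hQ hd hd0 (u := 2) (by norm_num)
  rw [if_pos (by decide), v_two hp1] at h9
  rw [hs, v_unit_mul (v_pow_unit hq _) (pow_ne_zero _ (by omega)), v_unit_mul (h1 _ le_rfl) h6,
    ← A_nat hQ, mul_comm 2 d, h9]
  norm_num

variable {K}
variable {V : Type v} [AddCommGroup V] [Module K V] {X : Type w} [AddCommGroup X] [Module K X]
variable {F : CForm K V} {F' : CForm K X} {j : X →ₗ[K] V} {W₀ : Submodule K V}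

/-- The number of totally singular spaces. -/
theorem v_om [FiniteDimensional K V] [Finite V] (h : Cmp F F' j W₀) (hq : ¬ p ∣ Nat.card K) {k : ℕ}
    (hW₀ : W₀ ∈ F.Om k) :
    (padicValNat p (Nat.card F.iso) : ℤ) = (padicValNat p (Nat.card (F.Om k)) : ℤ) +
      (padicValNat p (Nat.card (GL (Fin k) K)) : ℤ) + (padicValNat p (Nat.card F'.iso) : ℤ) := by
  classical
  obtain ⟨r, hr⟩ := CharP.exists K
  have hrp : r.Prime := (CharP.char_is_prime_or_zero K r).resolve_right (CharP.char_ne_zero_of_finite K r)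
  have : Fact r.Prime := ⟨hrp⟩
  obtain ⟨a, ha⟩ := card_exact (p := r) h hW₀
  have hfV : Finite (V ≃ₗ[K] V) := Finite.of_injective (fun e : V ≃ₗ[K] V => (e : V → V)) DFunLike.coe_injective
  have h0 : Nat.card F.iso ≠ 0 := Nat.card_pos.ne'
  have hpr : ¬ p ∣ r := by
    intro h
    obtain ⟨s, hs⟩ := card_pow K r
    have hpr : p = r := (Nat.prime_dvd_prime_iff_eq hp.out hrp).1 h
    have hs0 : s ≠ 0 := by
      rintro rfl
      have := two_le_card K
      rw [hs] at this
      norm_num at this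
    exact hq (hs ▸ hpr ▸ dvd_pow_self p hs0)
  rw [ha] at h0 ⊢
  have n1 := right_ne_zero_of_mul h0
  have n2 := right_ne_zero_of_mul n1
  have n3 := left_ne_zero_of_mul n1
  have n4 := right_ne_zero_of_mul n3
  have n5 := left_ne_zero_of_mul n3
  rw [v_unit_mul (v_pow_unit hpr _) (left_ne_zero_of_mul h0), padicValNat.mul n3 n2, padicValNat.mul n5 n4]
  push_cast
  rfl

end groups

section main

variable (K : Type u) [Field K] [Finite K] {p : ℕ} [hp : Fact p.Prime] {c : ℕ}

/-- From the weights to the number of spaces. -/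
theorem fin_step {x y z : ℕ} {β : ℤ} {w : ℕ} (hx : (x : ℤ) = ((w + 2 : ℕ) : ℤ) * β + (padicValNat p (w + 2).factorial : ℤ))
    (hz : (z : ℤ) = (w : ℤ) * β + (padicValNat p w.factorial : ℤ)) (h : (x : ℤ) = (y : ℤ) + β + (z : ℤ)) :
    (y : ℤ) = β + (padicValNat p (w + 1) : ℤ) + (padicValNat p (w + 2) : ℤ) := by
  rw [fact_two, Nat.cast_add, Nat.cast_ofNat] at hx
  linarith

theorem v_neg (hp1 : Odd p) {w : ℕ} (h : p ∣ w + 2 + 1) : padicValNat p (w + 1) = 0 ∧ padicValNat p (w + 2) = 0 := by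
  have hp2 := hp.out.two_le
  have hp3 : p ≠ 2 := by rintro rfl; exact absurd hp1 (by decide)
  constructor
  · refine padicValNat.eq_zero_of_not_dvd fun h1 => ?_
    have h2 : p ∣ 2 := (Nat.dvd_add_right h1).1 (by rwa [show w + 1 + 2 = w + 2 + 1 by omega])
    exact absurd (Nat.le_of_dvd (by norm_num) h2) (by omega)
  · refine padicValNat.eq_zero_of_not_dvd fun h1 => ?_
    have h2 : p ∣ 1 := (Nat.dvd_add_right h1).1 h
    exact absurd (Nat.le_of_dvd (by norm_num) h2) (by omega)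

/-- **Symplectic groups.** -/
theorem om_sp (hc : orderOf ((Nat.card K : ℕ) : ZMod p) = 2 * c) (hc0 : 0 < c) {n : ℕ}
    (hw : p ∣ wSp c (2 * c + n) + 1 ∨ n = 0) :
    padicValNat p (Nat.card ((CForm.spF K (2 * c + n)).Om (2 * c))) = padicValNat p (Nat.card K ^ c + 1) := by
  have hp1 := odd_of hc hc0
  obtain ⟨W₀, hW₀, h⟩ := spF_cmp K (2 * c) n
  have h1 := v_om (p := p) h (not_dvd hc hc0) hW₀
  rw [v_GL K hc hc0] at h1
  have h2 := v_iso_sp K hc hc0 (2 * c + n)
  rw [wSp_add hc0] at h2 hw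
  have h3 := fin_step h2 (v_iso_sp K hc hc0 n) h1
  have h4 : padicValNat p (wSp c n + 1) = 0 ∧ padicValNat p (wSp c n + 2) = 0 := by
    rcases hw with hw | rfl
    · exact v_neg hp1 hw
    · unfold wSp
      rw [Nat.zero_div]
      exact ⟨by simp, v_two hp1⟩
  rw [h4.1, h4.2, B_nat, Nat.cast_zero, add_zero, add_zero] at h3
  exact_mod_cast h3

/-- **Odd orthogonal groups.** -/
theorem om_odd (h2 : (2 : K) ≠ 0) (ho : Odd (Nat.card K)) (hc : orderOf ((Nat.card K : ℕ) : ZMod p) = 2 * c)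
    (hc0 : 0 < c) {n : ℕ} (hw : p ∣ wSp c (2 * c + n) + 1 ∨ n = 0) :
    padicValNat p (Nat.card ((CForm.oddF K (2 * c + n) h2).Om (2 * c))) = padicValNat p (Nat.card K ^ c + 1) := by
  have hp1 := odd_of hc hc0
  obtain ⟨W₀, hW₀, h⟩ := oddF_cmp K h2 (2 * c) n
  have h1 := v_om (p := p) h (not_dvd hc hc0) hW₀
  rw [v_GL K hc hc0] at h1
  have h2' := v_iso_odd K h2 ho hc hc0 (2 * c + n)
  rw [wSp_add hc0] at h2' hw
  have h3 := fin_step h2' (v_iso_odd K h2 ho hc hc0 n) h1
  have h4 : padicValNat p (wSp c n + 1) = 0 ∧ padicValNat p (wSp c n + 2) = 0 := by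
    rcases hw with hw | rfl
    · exact v_neg hp1 hw
    · unfold wSp
      rw [Nat.zero_div]
      exact ⟨by simp, v_two hp1⟩
  rw [h4.1, h4.2, B_nat, Nat.cast_zero, add_zero, add_zero] at h3
  exact_mod_cast h3

/-- **Orthogonal groups of plus type.** -/
theorem om_plus (hc : orderOf ((Nat.card K : ℕ) : ZMod p) = 2 * c) (hc0 : 0 < c) {n : ℕ}
    (hw : p ∣ wPlus c (2 * c + n) + 1 ∨ n = 0) :
    padicValNat p (Nat.card ((CForm.plusF K (2 * c + n)).Om (2 * c))) = padicValNat p (Nat.card K ^ c + 1) := by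
  have hp1 := odd_of hc hc0
  obtain ⟨W₀, hW₀, h⟩ := plusF_cmp K (2 * c) n
  have h1 := v_om (p := p) h (not_dvd hc hc0) hW₀
  rw [v_GL K hc hc0] at h1
  have h2 := v_iso_plus K hc hc0 (2 * c + n)
  rw [wPlus_add hc0] at h2 hw
  have h3 := fin_step h2 (v_iso_plus K hc hc0 n) h1
  have h4 : padicValNat p (wPlus c n + 1) = 0 ∧ padicValNat p (wPlus c n + 2) = 0 := by
    rcases hw with hw | rfl
    · exact v_neg hp1 hw
    · have : wPlus c 0 = 0 := by
        unfold wPlus
        simp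
      rw [this]
      exact ⟨by simp, v_two hp1⟩
  rw [h4.1, h4.2, B_nat, Nat.cast_zero, add_zero, add_zero] at h3
  exact_mod_cast h3

/-- **Orthogonal groups of minus type.** -/
theorem om_minus (hc : orderOf ((Nat.card K : ℕ) : ZMod p) = 2 * c) (hc0 : 0 < c) {n : ℕ} {a b : K}
    (hab : ∀ z₁ z₂ : K, z₁ ^ 2 + a * z₁ * z₂ + b * z₂ ^ 2 = 0 → z₁ = 0 ∧ z₂ = 0)
    (hw : p ∣ wMinus c (2 * c + n) + 1 ∨ (n = 0 ∧ 2 ≤ c)) :
    padicValNat p (Nat.card ((CForm.minusF K (2 * c + n) a b hab).Om (2 * c))) = padicValNat p (Nat.card K ^ c + 1) := by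
  have hp1 := odd_of hc hc0
  obtain ⟨W₀, hW₀, h⟩ := minusF_cmp K hab (2 * c) n
  have h1 := v_om (p := p) h (not_dvd hc hc0) hW₀
  rw [v_GL K hc hc0] at h1
  have h2 := v_iso_minus K hc hc0 (2 * c + n) a b hab
  rw [wMinus_add hc0] at h2 hw
  have h3 := fin_step h2 (v_iso_minus K hc hc0 n a b hab) h1
  have h4 : padicValNat p (wMinus c n + 1) = 0 ∧ padicValNat p (wMinus c n + 2) = 0 := by
    rcases hw with hw | ⟨rfl, hc2⟩
    · exact v_neg hp1 hw
    · have : wMinus c 0 = 0 := by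
        unfold wMinus
        rw [zero_add, Nat.div_eq_of_lt (by omega)]
        simp
      rw [this]
      exact ⟨by simp, v_two hp1⟩
  rw [h4.1, h4.2, B_nat, Nat.cast_zero, add_zero, add_zero] at h3
  exact_mod_cast h3

end main

end Cfsg.Agent.H35.HT.Idx
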