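import Cfsg.Agent.H722.DPol.Main
import Mathlib.NumberTheory.Multiplicity
import Mathlib.NumberTheory.Padics.PadicVal.Basic
import Mathlib.GroupTheory.OrderOfElement
import Mathlib.Tactic

/-!
# The `p`-parts of the degrees of the dual polar schemes, unitary primes (helper35)

`p` odd, `2 d` the order of `Q` modulo `p`.  The valuation of `ff Q (Q ^ t) m j` for `2 d ∣ j`,
`t = 1, 0, 2` (symplectic and odd orthogonal, plus, minus type), and the choice of `j` with
valuation one for all weights `p ≤ w ≤ 2 p - 2`.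
-/

set_option autoImplicit false
set_option linter.unusedSectionVars false
set_option linter.unusedVariables false

namespace Cfsg.Agent.H35.HT.Val

open Finset Cfsg.Agent.H722.DPol

variable {p : ℕ} [hp : Fact p.Prime] {Q d : ℕ}

section basic

theorem odd_of (hd : orderOf (Q : ZMod p) = 2 * d) (hd0 : 0 < d) : Odd p := by
  rcases hp.out.eq_two_or_odd' with h | h
  · exfalso
    subst h
    have h1 : ∀ x : ZMod 2, orderOf x ≤ 1 := by
      intro x
      fin_cases x
      · show orderOf (0 : ZMod 2) ≤ 1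
        rw [orderOf_zero]; exact Nat.zero_le _
      · show orderOf (1 : ZMod 2) ≤ 1
        rw [orderOf_one]
    have h2 := h1 (Q : ZMod 2)
    omega
  · exact h

theorem not_dvd (hd : orderOf (Q : ZMod p) = 2 * d) (hd0 : 0 < d) : ¬ p ∣ Q := by
  intro h
  have h1 : (Q : ZMod p) = 0 := (ZMod.natCast_eq_zero_iff _ _).2 h
  rw [h1, orderOf_zero] at hd
  omega

theorem sq_one {x : ZMod p} (h : x ^ 2 = 1) : x = 1 ∨ x = -1 := by
  have : (x - 1) * (x + 1) = 0 := by linear_combination h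
  rcases mul_eq_zero.1 this with h | h
  · left; exact sub_eq_zero.1 h
  · right; exact eq_neg_of_add_eq_zero_left h

theorem pow_d (hd : orderOf (Q : ZMod p) = 2 * d) (hd0 : 0 < d) : (Q : ZMod p) ^ d = -1 := by
  have h1 : ((Q : ZMod p) ^ d) ^ 2 = 1 := by
    rw [← pow_mul, mul_comm, ← hd, pow_orderOf_eq_one]
  rcases sq_one h1 with h | h
  · exfalso
    have h2 := orderOf_dvd_of_pow_eq_one h
    rw [hd] at h2
    have := Nat.le_of_dvd hd0 h2
    omega
  · exact h

theorem one_ne_neg (hp1 : Odd p) : (1 : ZMod p) ≠ -1 := by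
  intro h
  have h2 : ((2 : ℕ) : ZMod p) = 0 := by push_cast; linear_combination h
  rw [ZMod.natCast_eq_zero_iff] at h2
  have h3 := (Nat.prime_dvd_prime_iff_eq hp.out Nat.prime_two).1 h2
  rw [h3] at hp1
  exact absurd hp1 (by decide)

/-- The valuation of `Q ^ k - 1`. -/
noncomputable def A (p Q k : ℕ) : ℤ := padicValRat p ((Q : ℚ) ^ k - 1)

/-- The valuation of `Q ^ k + 1`. -/
noncomputable def B (p Q k : ℕ) : ℤ := padicValRat p ((Q : ℚ) ^ k + 1)

theorem A_nat (hQ : 2 ≤ Q) (k : ℕ) : A p Q k = (padicValNat p (Q ^ k - 1) : ℤ) := by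
  unfold A
  rw [← padicValRat.of_nat, Nat.cast_sub (Nat.one_le_pow _ _ (by omega))]
  push_cast
  rfl

theorem B_nat (k : ℕ) : B p Q k = (padicValNat p (Q ^ k + 1) : ℤ) := by
  unfold B
  rw [← padicValRat.of_nat]
  push_cast
  rfl

theorem v_lt {u : ℕ} (h0 : 0 < u) (h : u < p) : padicValNat p u = 0 :=
  padicValNat.eq_zero_of_not_dvd fun hd => absurd (Nat.le_of_dvd h0 hd) (by omega)

/-- `B` at the multiples of `d`. -/
theorem B_mul (hd : orderOf (Q : ZMod p) = 2 * d) (hd0 : 0 < d) (u : ℕ) :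
    B p Q (d * u) = if Odd u then B p Q d + (padicValNat p u : ℤ) else 0 := by
  have hp1 := odd_of hd hd0
  have hq := not_dvd hd hd0
  have h1 := pow_d hd hd0
  split_ifs with hu
  · rw [B_nat, B_nat, pow_mul]
    have h2 : p ∣ Q ^ d + 1 := by
      rw [← ZMod.natCast_eq_zero_iff]
      push_cast
      rw [h1]; ring
    have h3 := padicValNat.pow_add_pow hp1 h2 (fun h => hq (hp.out.dvd_of_dvd_pow h)) hu
    rw [one_pow] at h3
    rw [h3]
    push_cast
    rfl
  · rw [B_nat, padicValNat.eq_zero_of_not_dvd]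
    · rfl
    · intro h
      rw [← ZMod.natCast_eq_zero_iff] at h
      push_cast at h
      rw [pow_mul, h1, (Nat.not_odd_iff_even.1 hu).neg_one_pow] at h
      exact one_ne_neg hp1 (eq_neg_of_add_eq_zero_left h)

/-- `B` off the multiples of `d`. -/
theorem B_not (hd : orderOf (Q : ZMod p) = 2 * d) (hd0 : 0 < d) {k : ℕ} (hk : ¬ d ∣ k) :
    B p Q k = 0 := by
  rw [B_nat, padicValNat.eq_zero_of_not_dvd]
  · rfl
  · intro h
    rw [← ZMod.natCast_eq_zero_iff] at h
    push_cast at h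
    have h2 : (Q : ZMod p) ^ (2 * k) = 1 := by
      rw [mul_comm, pow_mul, eq_neg_of_add_eq_zero_left h]; ring
    have h3 := orderOf_dvd_of_pow_eq_one h2
    rw [hd] at h3
    exact hk ((Nat.mul_dvd_mul_iff_left (by norm_num)).1 h3)

/-- `A` at the multiples of `d`. -/
theorem A_mul (hQ : 2 ≤ Q) (hd : orderOf (Q : ZMod p) = 2 * d) (hd0 : 0 < d) {u : ℕ} (hu0 : 0 < u) :
    A p Q (d * u) = if Even u then B p Q d + (padicValNat p u : ℤ) else 0 := by
  have hp1 := odd_of hd hd0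
  have hq := not_dvd hd hd0
  have h1 := pow_d hd hd0
  split_ifs with hu
  · obtain ⟨t, rfl⟩ := hu
    have ht : t ≠ 0 := by omega
    have h2 : p ∣ Q ^ d + 1 := by
      rw [← ZMod.natCast_eq_zero_iff]
      push_cast
      rw [h1]; ring
    have e1 : d * (t + t) = (2 * d) * t := by ring
    have e2 : Q ^ (2 * d) - 1 = (Q ^ d + 1) * (Q ^ d - 1) := by
      rw [mul_comm 2 d, pow_mul]
      have := Nat.sq_sub_sq (Q ^ d) 1
      rwa [one_pow] at this
    have h4 : 1 < Q ^ d := Nat.one_lt_pow (by omega) (by omega)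
    have h5 : ¬ p ∣ Q ^ d - 1 := by
      intro h
      rw [← ZMod.natCast_eq_zero_iff, Nat.cast_sub h4.le] at h
      push_cast at h
      rw [h1] at h
      apply one_ne_neg hp1
      linear_combination -h
    have h6 : 1 < Q ^ (2 * d) := Nat.one_lt_pow (by omega) (by omega)
    have h3 := padicValNat.pow_sub_pow hp1 h6 (by rw [e2]; exact Dvd.dvd.mul_right h2 _)
      (fun h => hq (hp.out.dvd_of_dvd_pow h)) ht
    rw [one_pow, ← pow_mul, e2, padicValNat.mul (by omega) (by omega),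
      padicValNat.eq_zero_of_not_dvd h5, add_zero] at h3
    rw [A_nat hQ, B_nat, e1, h3]
    have h7 : padicValNat p (t + t) = padicValNat p t := by
      rw [← two_mul, padicValNat.mul (by norm_num) ht, padicValNat.eq_zero_of_not_dvd, zero_add]
      intro h
      have h3 := (Nat.prime_dvd_prime_iff_eq hp.out Nat.prime_two).1 h
      rw [h3] at hp1
      exact absurd hp1 (by decide)
    rw [h7]
    push_cast
    rfl
  · rw [A_nat hQ, padicValNat.eq_zero_of_not_dvd]
    · rfl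
    · intro h
      rw [← ZMod.natCast_eq_zero_iff, Nat.cast_sub (Nat.one_le_pow _ _ (by omega))] at h
      push_cast at h
      rw [pow_mul, h1, (Nat.not_even_iff_odd.1 hu).neg_one_pow] at h
      apply one_ne_neg hp1
      linear_combination -h

/-- `A` off the multiples of `d`. -/
theorem A_not (hQ : 2 ≤ Q) (hd : orderOf (Q : ZMod p) = 2 * d) {k : ℕ} (hk : ¬ d ∣ k) :
    A p Q k = 0 := by
  rw [A_nat hQ, padicValNat.eq_zero_of_not_dvd]
  · rfl
  · intro h
    rw [← ZMod.natCast_eq_zero_iff, Nat.cast_sub (Nat.one_le_pow _ _ (by omega))] at h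
    push_cast at h
    have h2 : (Q : ZMod p) ^ k = 1 := sub_eq_zero.1 h
    have h3 := orderOf_dvd_of_pow_eq_one h2
    rw [hd] at h3
    exact hk (dvd_trans (Dvd.intro_left 2 rfl) h3)

theorem B_zero (hp1 : Odd p) : B p Q 0 = 0 := by
  rw [B_nat, pow_zero, padicValNat.eq_zero_of_not_dvd]
  · rfl
  · intro h
    have h3 := (Nat.prime_dvd_prime_iff_eq hp.out Nat.prime_two).1 h
    rw [h3] at hp1
    exact absurd hp1 (by decide)

/-- The sum of the valuations of `Q ^ (2 x) - 1`. -/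
noncomputable def TT (p Q n : ℕ) : ℤ := ∑ x ∈ range n, (A p Q (x + 1) + B p Q (x + 1))

theorem TT_succ (n : ℕ) : TT p Q (n + 1) = TT p Q n + (A p Q (n + 1) + B p Q (n + 1)) :=
  sum_range_succ _ _

theorem TT_eq (hQ : 2 ≤ Q) (hd : orderOf (Q : ZMod p) = 2 * d) (hd0 : 0 < d) (n : ℕ) :
    TT p Q n = ((n / d : ℕ) : ℤ) * B p Q d + (padicValNat p (n / d).factorial : ℤ) := by
  induction n with
  | zero =>
    unfold TT
    simp
  | succ n ih =>
    rw [TT_succ, ih]
    by_cases h : d ∣ n + 1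
    · obtain ⟨u, hu⟩ := h
      have hu0 : 0 < u := by
        rcases Nat.eq_zero_or_pos u with rfl | h
        · omega
        · exact h
      have e1 : (n + 1) / d = u := by rw [hu, Nat.mul_div_cancel_left _ hd0]
      have e2 : n / d + 1 = u := by
        rw [← e1, Nat.succ_div_of_dvd ⟨u, hu⟩]
      rw [hu, A_mul hQ hd hd0 hu0, B_mul hd hd0, Nat.mul_div_cancel_left _ hd0, ← e2, Nat.factorial_succ,
        padicValNat.mul (by omega) (Nat.factorial_ne_zero _)]
      rcases Nat.even_or_odd (n / d + 1) with he | ho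
      · rw [if_pos he, if_neg (Nat.not_odd_iff_even.2 he)]
        push_cast
        ring
      · rw [if_neg (Nat.not_even_iff_odd.2 ho), if_pos ho]
        push_cast
        ring
    · rw [A_not hQ hd h, B_not hd hd0 h, Nat.succ_div_of_not_dvd h]
      ring

end basic

section gg

/-- The valuation of a sum of two powers. -/
theorem v_add (hq : ¬ p ∣ Q) (hQ : 2 ≤ Q) (x y : ℕ) :
    padicValRat p ((Q : ℚ) ^ x + (Q : ℚ) ^ y) = B p Q ((x - y) + (y - x)) := by
  have hQ0 : (Q : ℚ) ≠ 0 := by positivity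
  have hv : padicValRat p (Q : ℚ) = 0 := by
    rw [padicValRat.of_nat, padicValNat.eq_zero_of_not_dvd hq]; rfl
  have key : ∀ a b : ℕ, a ≤ b → padicValRat p ((Q : ℚ) ^ a + (Q : ℚ) ^ b) = B p Q (b - a) := by
    intro a b hab
    have e : (Q : ℚ) ^ a + (Q : ℚ) ^ b = (Q : ℚ) ^ a * ((Q : ℚ) ^ (b - a) + 1) := by
      rw [mul_add, mul_one, ← pow_add, Nat.add_sub_cancel' hab, add_comm]
    rw [e, padicValRat.mul (pow_ne_zero _ hQ0) (by positivity), padicValRat.pow, hv, mul_zero,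
      zero_add]
    rfl
  rcases le_total x y with h | h
  · rw [key x y h, Nat.sub_eq_zero_of_le h, zero_add]
  · rw [add_comm, key y x h, Nat.sub_eq_zero_of_le h, add_zero]

theorem v_gg (hq : ¬ p ∣ Q) (hQ : 2 ≤ Q) (t m : ℕ) {j : ℕ} (hj : j ≤ m) :
    padicValRat p (gg (Q : ℚ) ((Q : ℚ) ^ t) m j) =
      ∑ i ∈ range j, (A p Q (m - i) + B p Q (t + (m - (i + 1))) - A p Q (i + 1) -
        B p Q ((t - (i + 1)) + ((i + 1) - t))) := by
  have hQ1 : (1 : ℚ) < Q := by exact_mod_cast (by omega : 1 < Q)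
  have hQ0 : (0 : ℚ) < Q := by linarith
  have hv : padicValRat p (Q : ℚ) = 0 := by
    rw [padicValRat.of_nat, padicValNat.eq_zero_of_not_dvd hq]; rfl
  induction j with
  | zero =>
    unfold gg
    simp
  | succ j ih =>
    have hg := (gg_pos (s := (Q : ℚ) ^ t) hQ1 (pow_pos hQ0 t) (show j ≤ m by omega)).ne'
    obtain ⟨k, hk⟩ : ∃ k, m - j = k + 1 := ⟨m - j - 1, by omega⟩
    have n1 : (Q : ℚ) ^ (m - j) - 1 ≠ 0 := by
      rw [hk]; exact (pow_one_pos hQ1 k).ne'
    have n2 : (Q : ℚ) ^ (j + 1) - 1 ≠ 0 := (pow_one_pos hQ1 j).ne'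
    have n3 : (Q : ℚ) ^ t ≠ 0 := by positivity
    have n4 : 1 + (Q : ℚ) ^ t * (Q : ℚ) ^ (m - (j + 1)) ≠ 0 := by positivity
    have n5 : (Q : ℚ) ^ t + (Q : ℚ) ^ (j + 1) ≠ 0 := by positivity
    have e1 : padicValRat p (1 + (Q : ℚ) ^ t * (Q : ℚ) ^ (m - (j + 1))) =
        B p Q (t + (m - (j + 1))) := by
      rw [← pow_add, add_comm]
      rfl
    rw [gg_succ, sum_range_succ, ← ih (by omega),
      padicValRat.mul hg (div_ne_zero (mul_ne_zero (mul_ne_zero n3 n1) n4) (mul_ne_zero n2 n5)),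
      padicValRat.div (mul_ne_zero (mul_ne_zero n3 n1) n4) (mul_ne_zero n2 n5),
      padicValRat.mul (mul_ne_zero n3 n1) n4, padicValRat.mul n3 n1, padicValRat.mul n2 n5,
      padicValRat.pow, hv, v_add hq hQ, e1]
    unfold A
    ring

theorem v_ff (hq : ¬ p ∣ Q) (hQ : 2 ≤ Q) (t m : ℕ) {j : ℕ} (hj : j ≤ m) :
    padicValRat p (ff (Q : ℚ) ((Q : ℚ) ^ t) m j) = padicValRat p (gg (Q : ℚ) ((Q : ℚ) ^ t) m j) +
      B p Q ((2 * j - (t + m)) + ((t + m) - 2 * j)) - B p Q (t + m - j) := by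
  have hQ1 : (1 : ℚ) < Q := by exact_mod_cast (by omega : 1 < Q)
  have hQ0 : (0 : ℚ) < Q := by linarith
  have hg := (gg_pos (s := (Q : ℚ) ^ t) hQ1 (pow_pos hQ0 t) hj).ne'
  have n1 : (Q : ℚ) ^ (2 * j) + (Q : ℚ) ^ t * (Q : ℚ) ^ m ≠ 0 := by positivity
  have n2 : (Q : ℚ) ^ j + (Q : ℚ) ^ t * (Q : ℚ) ^ m ≠ 0 := by positivity
  unfold ff
  rw [padicValRat.div (mul_ne_zero hg n1) n2, padicValRat.mul hg n1, ← pow_add, v_add hq hQ,
    v_add hq hQ, show (j - (t + m)) + ((t + m) - j) = t + m - j by omega]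

/-- Telescoping. -/
theorem sum_top (n : ℕ) {j : ℕ} (hj : j ≤ n) :
    ∑ i ∈ range j, (A p Q (n - i) + B p Q (n - i)) = TT p Q n - TT p Q (n - j) := by
  induction j with
  | zero => simp
  | succ j ih =>
    rw [sum_range_succ, ih (by omega)]
    have e : n - j = (n - (j + 1)) + 1 := by omega
    have h := TT_succ (p := p) (Q := Q) (n - (j + 1))
    rw [← e] at h
    rw [h]
    ring

/-- Symplectic and odd orthogonal groups. -/
theorem v_sp (hQ : 2 ≤ Q) (hd : orderOf (Q : ZMod p) = 2 * d) (hd0 : 0 < d) {n k : ℕ}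
    (hk : Even k) (hj : d * k ≤ n) :
    padicValRat p (ff (Q : ℚ) ((Q : ℚ) ^ 1) n (d * k)) =
      (padicValNat p (n / d).factorial : ℤ) - (padicValNat p k.factorial : ℤ) -
        (padicValNat p (n / d - k).factorial : ℤ) +
      B p Q ((2 * (d * k) - (n + 1)) + ((n + 1) - 2 * (d * k))) - B p Q (n + 1 - d * k) := by
  have hq := not_dvd hd hd0
  have hp1 := odd_of hd hd0
  have e0 : ∀ j, j ≤ n → ∑ i ∈ range j, (A p Q (n - i) + B p Q (1 + (n - (i + 1))) - A p Q (i + 1) -
        B p Q ((1 - (i + 1)) + ((i + 1) - 1))) = (TT p Q n - TT p Q (n - j)) - TT p Q j + B p Q j := by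
    intro j hj
    rw [← sum_top n hj]
    induction j with
    | zero => unfold TT; simp [B_zero hp1]
    | succ j ih =>
      rw [sum_range_succ, sum_range_succ, ih (by omega), TT_succ,
        show 1 + (n - (j + 1)) = n - j by omega, show (1 - (j + 1)) + ((j + 1) - 1) = j by omega]
      ring
  have hkn : k ≤ n / d := (Nat.le_div_iff_mul_le hd0).2 (by rw [mul_comm]; exact hj)
  have e1 : (n - d * k) / d = n / d - k := Nat.sub_mul_div n d k
  rw [v_ff hq hQ 1 n hj, v_gg hq hQ 1 n hj, e0 _ hj, B_mul hd hd0, if_neg (Nat.not_odd_iff_even.2 hk),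
    TT_eq hQ hd hd0, TT_eq hQ hd hd0, TT_eq hQ hd hd0, e1, Nat.mul_div_cancel_left _ hd0,
    add_comm 1 n]
  push_cast [Nat.cast_sub hkn]
  ring

/-- Orthogonal groups of plus type. -/
theorem v_plus (hQ : 2 ≤ Q) (hd : orderOf (Q : ZMod p) = 2 * d) (hd0 : 0 < d) {n k : ℕ}
    (hj : d * k ≤ n) :
    padicValRat p (ff (Q : ℚ) ((Q : ℚ) ^ 0) n (d * k)) =
      (padicValNat p (n / d).factorial : ℤ) - (padicValNat p k.factorial : ℤ) -
        (padicValNat p (n / d - k).factorial : ℤ) +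
      B p Q ((2 * (d * k) - n) + (n - 2 * (d * k))) - B p Q n := by
  have hq := not_dvd hd hd0
  have hp1 := odd_of hd hd0
  have e0 : ∀ j, j ≤ n → ∑ i ∈ range j, (A p Q (n - i) + B p Q (0 + (n - (i + 1))) - A p Q (i + 1) -
        B p Q ((0 - (i + 1)) + ((i + 1) - 0))) =
        (TT p Q n - TT p Q (n - j)) - TT p Q j + B p Q (n - j) - B p Q n := by
    intro j hj
    rw [← sum_top n hj]
    induction j with
    | zero => unfold TT; simp
    | succ j ih =>
      rw [sum_range_succ, sum_range_succ, ih (by omega), TT_succ,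
        show 0 + (n - (j + 1)) = n - (j + 1) by omega, show (0 - (j + 1)) + ((j + 1) - 0) = j + 1 by omega]
      ring
  have hkn : k ≤ n / d := (Nat.le_div_iff_mul_le hd0).2 (by rw [mul_comm]; exact hj)
  have e1 : (n - d * k) / d = n / d - k := Nat.sub_mul_div n d k
  rw [v_ff hq hQ 0 n hj, v_gg hq hQ 0 n hj, e0 _ hj,
    TT_eq hQ hd hd0, TT_eq hQ hd hd0, TT_eq hQ hd hd0, e1, Nat.mul_div_cancel_left _ hd0, zero_add]
  push_cast [Nat.cast_sub hkn]
  ring

/-- Orthogonal groups of minus type, `n = m + 1`. -/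
theorem v_minus (hQ : 2 ≤ Q) (hd : orderOf (Q : ZMod p) = 2 * d) (hd0 : 0 < d) {m k : ℕ}
    (hk : Even k) (hk0 : 0 < k) (hj : d * k ≤ m) :
    padicValRat p (ff (Q : ℚ) ((Q : ℚ) ^ 2) m (d * k)) =
      (padicValNat p ((m + 1) / d).factorial : ℤ) - (padicValNat p k.factorial : ℤ) -
        (padicValNat p ((m + 1) / d - k).factorial : ℤ) -
      A p Q (m + 1) + A p Q (m + 1 - d * k) - B p Q 1 + B p Q (d * k - 1) +
      B p Q ((2 * (d * k) - (m + 2)) + ((m + 2) - 2 * (d * k))) - B p Q (m + 2 - d * k) := by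
  have hq := not_dvd hd hd0
  have hp1 := odd_of hd hd0
  have e0 : ∀ j, 1 ≤ j → j ≤ m →
      ∑ i ∈ range j, (A p Q (m - i) + B p Q (2 + (m - (i + 1))) - A p Q (i + 1) -
        B p Q ((2 - (i + 1)) + ((i + 1) - 2))) =
        (TT p Q (m + 1) - TT p Q (m + 1 - j)) - TT p Q j - A p Q (m + 1) + A p Q (m + 1 - j) -
          B p Q 1 + B p Q (j - 1) + B p Q j := by
    intro j hj1 hj
    rw [← sum_top (m + 1) (by omega)]
    induction j with
    | zero => omega
    | succ j ih =>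
      rcases Nat.eq_zero_or_pos j with rfl | hj0
      · rw [sum_range_one, sum_range_one, TT_succ,
          show 2 + (m - (0 + 1)) = m + 1 by omega, show (2 - (0 + 1)) + ((0 + 1) - 2) = 1 by omega,
          show m + 1 - (0 + 1) = m by omega, show 0 + 1 - 1 = 0 by omega, B_zero hp1]
        unfold TT
        simp only [Nat.sub_zero, range_zero, sum_empty, zero_add, add_zero]
        ring
      · rw [sum_range_succ, sum_range_succ _ (j), ih hj0 (by omega), TT_succ,
          show 2 + (m - (j + 1)) = m + 1 - j by omega,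
          show (2 - (j + 1)) + ((j + 1) - 2) = j - 1 by omega,
          show m + 1 - (j + 1) = m - j by omega, show j + 1 - 1 = j by omega]
        ring
  have hkn : k ≤ (m + 1) / d := (Nat.le_div_iff_mul_le hd0).2 (by rw [mul_comm]; omega)
  have e1 : (m + 1 - d * k) / d = (m + 1) / d - k := Nat.sub_mul_div (m + 1) d k
  have h1 : 1 ≤ d * k := Nat.mul_pos hd0 hk0
  rw [v_ff hq hQ 2 m hj, v_gg hq hQ 2 m hj, e0 _ h1 hj, B_mul hd hd0 k,
    if_neg (Nat.not_odd_iff_even.2 hk),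
    TT_eq hQ hd hd0, TT_eq hQ hd hd0, TT_eq hQ hd hd0, e1, Nat.mul_div_cancel_left _ hd0,
    add_comm 2 m]
  push_cast [Nat.cast_sub hkn]
  ring

end gg

section choice

theorem v_fact {c r : ℕ} (hc : c < p) (hr : r < p) : padicValNat p (p * c + r).factorial = c := by
  have h0 := hp.out.pos
  have h1 : p * c + r < p ^ 2 := by nlinarith
  rw [padicValNat_factorial (b := 2) (Nat.log_lt_of_lt_pow' (by norm_num) h1)]
  rw [show Ico 1 2 = {1} from rfl, sum_singleton, pow_one, Nat.mul_add_div h0, Nat.div_eq_of_lt hr,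
    add_zero]

theorem v_fact_lt {r : ℕ} (hr : r < p) : padicValNat p r.factorial = 0 := by
  have := v_fact (c := 0) hp.out.pos hr
  rwa [mul_zero, zero_add] at this

theorem v_unit {c r : ℕ} (h0 : 0 < r) (hr : r < p) : padicValNat p (p * c + r) = 0 :=
  padicValNat.eq_zero_of_not_dvd fun h =>
    absurd (Nat.le_of_dvd h0 ((Nat.dvd_add_right (Dvd.intro _ rfl)).1 h)) (by omega)

theorem v_unit' {c r : ℕ} (h0 : 0 < r) (hr : r < p) (h : r ≤ p * c) : padicValNat p (p * c - r) = 0 :=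
  padicValNat.eq_zero_of_not_dvd fun h1 =>
    absurd (Nat.le_of_dvd h0 ((Nat.dvd_sub_iff_right h (Dvd.intro _ rfl)).1 h1)) (by omega)

theorem v_p {c : ℕ} (h0 : 0 < c) (hc : c < p) : padicValNat p (p * c) = 1 := by
  rw [padicValNat.mul hp.out.ne_zero h0.ne', padicValNat_self, v_lt h0 hc]

/-- The even one of `(p - 1) / 2`, `(3 p - 1) / 2`. -/
theorem exists_k (hp1 : Odd p) : ∃ k, Even k ∧ 0 < k ∧ (2 * k + 1 = p ∨ 2 * k + 1 = 3 * p) := by
  have h2 := hp.out.two_le
  obtain ⟨a, ha⟩ := hp1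
  rcases Nat.even_or_odd a with h | h
  · exact ⟨a, h, by omega, Or.inl ha.symm⟩
  · refine ⟨3 * a + 1, ?_, by omega, Or.inr (by omega)⟩
    obtain ⟨b, hb⟩ := h
    exact ⟨3 * b + 2, by omega⟩

theorem B_div (hd : orderOf (Q : ZMod p) = 2 * d) (hd0 : 0 < d) {x u : ℕ} (hx : x = d * u) :
    B p Q x = if Odd u then B p Q d + (padicValNat p u : ℤ) else 0 := by
  rw [hx, B_mul hd hd0]

/-- No correction. -/
theorem corr0 (hd : orderOf (Q : ZMod p) = 2 * d) (hd0 : 0 < d) {N k : ℕ} (hk : d * k ≤ N)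
    (hke : Even k) (h : ∀ W, N = d * W → ¬ Odd W) :
    B p Q ((2 * (d * k) - N) + (N - 2 * (d * k))) - B p Q (N - d * k) = 0 := by
  by_cases hdN : d ∣ N
  · obtain ⟨W, hW⟩ := hdN
    have hkW : k ≤ W := by
      rw [hW] at hk
      exact Nat.le_of_mul_le_mul_left hk hd0
    have e1 : N - d * k = d * (W - k) := by rw [hW, Nat.mul_sub]
    have e2 : (2 * (d * k) - N) + (N - 2 * (d * k)) = d * ((2 * k - W) + (W - 2 * k)) := by
      rw [hW, mul_add, Nat.mul_sub, Nat.mul_sub]
      congr 2 <;> ring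
    have he := Nat.not_odd_iff_even.1 (h W hW)
    have o1 : ¬ Odd ((2 * k - W) + (W - 2 * k)) := by
      rw [Nat.not_odd_iff_even]
      obtain ⟨a, ha⟩ := he
      obtain ⟨b, hb⟩ := hke
      exact ⟨(2 * b - a) + (a - 2 * b), by omega⟩
    have o2 : ¬ Odd (W - k) := by
      rw [Nat.not_odd_iff_even]
      obtain ⟨a, ha⟩ := he
      obtain ⟨b, hb⟩ := hke
      exact ⟨a - b, by omega⟩
    rw [e1, e2, B_mul hd hd0, B_mul hd hd0, if_neg o1, if_neg o2, sub_zero]
  · have e1 : ¬ d ∣ N - d * k := fun h => hdN ((Nat.dvd_sub_iff_left hk (Dvd.intro _ rfl)).1 h)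
    have e2 : ¬ d ∣ (2 * (d * k) - N) + (N - 2 * (d * k)) := by
      intro h
      apply hdN
      have h2 : d ∣ 2 * (d * k) := ⟨2 * k, by ring⟩
      rcases Nat.lt_or_ge N (2 * (d * k)) with h3 | h3
      · rw [Nat.sub_eq_zero_of_le h3.le, add_zero] at h
        exact (Nat.dvd_sub_iff_right h3.le h2).1 h
      · rw [Nat.sub_eq_zero_of_le h3, zero_add] at h
        exact (Nat.dvd_sub_iff_left h3 h2).1 h
    rw [B_not hd hd0 e1, B_not hd hd0 e2, sub_zero]

/-- The correction. -/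
theorem corr1 (hd : orderOf (Q : ZMod p) = 2 * d) (hd0 : 0 < d) {W k : ℕ}
    (hke : Even k) (h : Odd W) :
    B p Q ((2 * (d * k) - d * W) + (d * W - 2 * (d * k))) - B p Q (d * W - d * k) =
      (padicValNat p ((2 * k - W) + (W - 2 * k)) : ℤ) - (if k ≤ W then (padicValNat p (W - k) : ℤ) else - B p Q d) := by
  have e1 : d * W - d * k = d * (W - k) := by rw [Nat.mul_sub]
  have e2 : (2 * (d * k) - d * W) + (d * W - 2 * (d * k)) = d * ((2 * k - W) + (W - 2 * k)) := by
    rw [mul_add, Nat.mul_sub, Nat.mul_sub]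
    congr 2 <;> ring
  have o1 : Odd ((2 * k - W) + (W - 2 * k)) := by
    obtain ⟨a, ha⟩ := h
    obtain ⟨b, hb⟩ := hke
    rcases Nat.lt_or_ge W (2 * k) with h | h
    · exact ⟨2 * b - a - 1, by omega⟩
    · exact ⟨a - 2 * b, by omega⟩
  rw [e1, e2, B_mul hd hd0, B_mul hd hd0, if_pos o1]
  rcases Nat.lt_or_ge W k with hkW | hkW
  · have o2 : ¬ Odd (W - k) := by rw [Nat.sub_eq_zero_of_le hkW.le]; decide
    rw [if_neg o2, if_neg (by omega)]
    ring
  · have o2 : Odd (W - k) := by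
      obtain ⟨a, ha⟩ := h
      obtain ⟨b, hb⟩ := hke
      exact ⟨a - b, by omega⟩
    rw [if_pos o2, if_pos hkW]
    ring

/-- The digits of the weight. -/
theorem digits {w : ℕ} (h1 : p ≤ w) (h2 : w < p ^ 2) (h3 : ¬ p ∣ w + 1) :
    ∃ c r, w = p * c + r ∧ 0 < c ∧ c < p ∧ r + 1 < p := by
  have h0 := hp.out.pos
  refine ⟨w / p, w % p, (Nat.div_add_mod w p).symm, Nat.div_pos h1 h0, ?_, ?_⟩
  · rw [Nat.div_lt_iff_lt_mul h0]
    nlinarith
  · have h4 := Nat.mod_lt w h0
    rcases Nat.lt_or_ge (w % p + 1) p with h | h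
    · exact h
    · exfalso
      apply h3
      have h5 := Nat.div_add_mod w p
      refine ⟨w / p + 1, ?_⟩
      rw [mul_add, mul_one]
      omega

/-- The numeric part, no correction. -/
theorem num0 {c r : ℕ} (hc0 : 0 < c) (hc : c < p) (hr : r + 1 < p) :
    (padicValNat p (p * c + r).factorial : ℤ) - (padicValNat p (p - 1).factorial : ℤ) -
        (padicValNat p (p * c + r - (p - 1)).factorial : ℤ) = 1 := by
  obtain ⟨c, rfl⟩ : ∃ e, c = e + 1 := ⟨c - 1, by omega⟩
  have e : p * (c + 1) + r - (p - 1) = p * c + (r + 1) := by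
    rw [mul_add]; omega
  rw [e, v_fact hc (by omega), v_fact (by omega) hr, v_fact_lt (by omega)]
  push_cast
  ring

/-- The numeric part for the second choice. -/
theorem num1 {c r k : ℕ} (hc0 : 0 < c) (hc : c < p) (hr : r < p) (hk0 : 0 < k)
    (hk : 2 * k + 1 = p ∨ 2 * k + 1 = 3 * p) (hr2 : p ≤ r + 2) :
    (padicValNat p (p * c + r).factorial : ℤ) - (padicValNat p k.factorial : ℤ) -
        (padicValNat p (p * c + r - k).factorial : ℤ) = 0 := by
  rcases hk with hk | hk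
  · have e : p * c + r - k = p * c + (r - k) := by omega
    rw [e, v_fact hc hr, v_fact hc (by omega), v_fact_lt (by omega)]
    ring
  · obtain ⟨c, rfl⟩ : ∃ e, c = e + 1 := ⟨c - 1, by omega⟩
    have e : p * (c + 1) + r - k = p * c + (r - (k - p)) := by
      rw [mul_add]; omega
    have e1 : k = p * 1 + (k - p) := by omega
    rw [e, v_fact hc hr, v_fact (by omega) (by omega)]
    conv_lhs => rw [e1]
    rw [v_fact (by have := hp.out.two_le; omega) (by omega)]
    push_cast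
    ring

/-- The correction for `k = p - 1`, numerator. -/
theorem cA (hp1 : Odd p) {c r : ℕ} (hc0 : 0 < c) (hc : c < p) (hr : r + 3 ≤ p) (hW : Odd (p * c + r + 1)) :
    padicValNat p ((2 * (p - 1) - (p * c + r + 1)) + ((p * c + r + 1) - 2 * (p - 1))) ≤ 1 ∧
      (c = 1 → padicValNat p ((2 * (p - 1) - (p * c + r + 1)) + ((p * c + r + 1) - 2 * (p - 1))) = 0) := by
  have h2 := hp.out.two_le
  rcases Nat.lt_or_ge c 2 with h | h
  · have hc1 : c = 1 := by omega
    subst hc1
    have hne : r + 3 ≠ p := by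
      rintro rfl
      obtain ⟨a, ha⟩ := hp1
      obtain ⟨b, hb⟩ := hW
      omega
    have e : (2 * (p - 1) - (p * 1 + r + 1)) + ((p * 1 + r + 1) - 2 * (p - 1)) = p - (r + 3) := by omega
    rw [e, v_lt (by omega) (by omega)]
    exact ⟨by omega, fun _ => rfl⟩
  · obtain ⟨c, rfl⟩ : ∃ e, c = e + 2 := ⟨c - 2, by omega⟩
    have e : (2 * (p - 1) - (p * (c + 2) + r + 1)) + ((p * (c + 2) + r + 1) - 2 * (p - 1)) = p * c + (r + 3) := by
      rw [mul_add]; omega
    rw [e]
    rcases Nat.lt_or_ge (r + 3) p with h3 | h3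
    · rw [v_unit (by omega) h3]
      exact ⟨by omega, fun _ => rfl⟩
    · have e2 : p * c + (r + 3) = p * (c + 1) := by rw [mul_add]; omega
      rw [e2, v_p (by omega) (by omega)]
      exact ⟨le_rfl, by omega⟩

theorem cC {c r : ℕ} (hc0 : 0 < c) (hr : r + 2 < p) : padicValNat p ((p * c + r + 1) - (p - 1)) = 0 := by
  obtain ⟨c, rfl⟩ : ∃ e, c = e + 1 := ⟨c - 1, by omega⟩
  have e : (p * (c + 1) + r + 1) - (p - 1) = p * c + (r + 2) := by rw [mul_add]; omega
  rw [e, v_unit (by omega) hr]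

theorem cB (hp1 : Odd p) {c k : ℕ} (hc0 : 0 < c) (hc : c < p) (hke : Even k) (hk : 2 * k + 1 = p ∨ 2 * k + 1 = 3 * p)
    (hW : Odd (p * c + (p - 1))) :
    padicValNat p ((2 * k - (p * c + (p - 1))) + ((p * c + (p - 1)) - 2 * k)) = 1 := by
  have h2 := hp.out.two_le
  rcases hk with hk | hk
  · have e : (2 * k - (p * c + (p - 1))) + ((p * c + (p - 1)) - 2 * k) = p * c := by omega
    rw [e, v_p hc0 hc]
  · rcases Nat.lt_or_ge c 2 with h | h
    · have hc1 : c = 1 := by omega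
      subst hc1
      have e : (2 * k - (p * 1 + (p - 1))) + ((p * 1 + (p - 1)) - 2 * k) = p := by omega
      rw [e, padicValNat_self]
    · obtain ⟨c, rfl⟩ : ∃ e, c = e + 2 := ⟨c - 2, by omega⟩
      have e : (2 * k - (p * (c + 2) + (p - 1))) + ((p * (c + 2) + (p - 1)) - 2 * k) = p * c := by
        rw [mul_add]; omega
      have hc2 : c ≠ 0 := by
        rintro rfl
        obtain ⟨a, ha⟩ := hp1
        obtain ⟨b, hb⟩ := hW
        omega
      rw [e, v_p (by omega) (by omega)]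

theorem cD {c k : ℕ} (hp1 : Odd p) (hc0 : 0 < c) (hk0 : 0 < k) (hk : 2 * k + 1 = p ∨ 2 * k + 1 = 3 * p) :
    k ≤ p * c + (p - 1) ∧ padicValNat p ((p * c + (p - 1)) - k) = 0 := by
  have h2 := hp.out.two_le
  have h3 : p ≠ 2 := by rintro rfl; exact absurd hp1 (by decide)
  obtain ⟨c, rfl⟩ : ∃ e, c = e + 1 := ⟨c - 1, by omega⟩
  rw [mul_add, mul_one]
  rcases hk with hk | hk
  · refine ⟨by omega, ?_⟩
    have e : p * c + p + (p - 1) - k = p * (c + 1) + (p - 1 - k) := by rw [mul_add]; omega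
    rw [e, v_unit (by omega) (by omega)]
  · refine ⟨by omega, ?_⟩
    have e : p * c + p + (p - 1) - k = p * c + (p + (p - 1) - k) := by omega
    rw [e, v_unit (by omega) (by omega)]

/-- Both corrections together, `k = p - 1`. -/
theorem ctot (hd : orderOf (Q : ZMod p) = 2 * d) (hd0 : 0 < d) {N c r : ℕ} (hc0 : 0 < c) (hc : c < p)
    (hr : r + 3 ≤ p) (hW : ∀ W, N = d * W → W = p * c + r + 1) (hN : d * (p - 1) ≤ N) :
    0 ≤ B p Q ((2 * (d * (p - 1)) - N) + (N - 2 * (d * (p - 1)))) - B p Q (N - d * (p - 1)) ∧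
      B p Q ((2 * (d * (p - 1)) - N) + (N - 2 * (d * (p - 1)))) - B p Q (N - d * (p - 1)) ≤ 1 ∧
      (c = 1 → B p Q ((2 * (d * (p - 1)) - N) + (N - 2 * (d * (p - 1)))) - B p Q (N - d * (p - 1)) = 0) := by
  have hp1 := odd_of hd hd0
  have hke : Even (p - 1) := hp1.tsub_odd odd_one
  by_cases H : ∃ W, N = d * W ∧ Odd W
  · obtain ⟨W, rfl, ho⟩ := H
    have e := hW W rfl
    subst e
    rw [corr1 hd hd0 hke ho, if_pos (by
      have : p * 1 ≤ p * c := Nat.mul_le_mul_left _ hc0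
      omega), cC hc0 (by omega)]
    have h := cA hp1 hc0 hc hr ho
    rw [Nat.cast_zero, sub_zero]
    exact ⟨Nat.cast_nonneg _, by exact_mod_cast h.1, fun h1 => by rw [h.2 h1]; rfl⟩
  · rw [corr0 hd hd0 hN hke (fun W h1 h2 => H ⟨W, h1, h2⟩)]
    exact ⟨le_rfl, by norm_num, fun _ => rfl⟩

theorem div_succ {n W : ℕ} (hd0 : 0 < d) (h : n + 1 = d * W) : n / d = W - 1 := by
  have hW : 0 < W := by
    rcases Nat.eq_zero_or_pos W with rfl | h1
    · omega
    · exact h1
  obtain ⟨W, rfl⟩ : ∃ e, W = e + 1 := ⟨W - 1, by omega⟩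
  rw [Nat.add_sub_cancel]
  refine Nat.div_eq_of_lt_le ?_ ?_
  · rw [mul_comm]; rw [mul_add] at h; omega
  · rw [mul_comm]; omega

/-- **Symplectic and odd orthogonal groups.** -/
theorem exists_sp (hQ : 2 ≤ Q) (hd : orderOf (Q : ZMod p) = 2 * d) (hd0 : 0 < d) {n w : ℕ} (hw : w = n / d)
    (h1 : p ≤ w) (h2 : w < p ^ 2) (h3 : ¬ p ∣ w + 1) :
    ∃ k, Even k ∧ 0 < k ∧ d * k ≤ n ∧
      1 ≤ padicValRat p (ff (Q : ℚ) ((Q : ℚ) ^ 1) n (d * k)) ∧
      padicValRat p (ff (Q : ℚ) ((Q : ℚ) ^ 1) n (d * k)) ≤ 2 ∧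
      (w < 2 * p → padicValRat p (ff (Q : ℚ) ((Q : ℚ) ^ 1) n (d * k)) = 1) := by
  have hp1 := odd_of hd hd0
  have hp2 := hp.out.two_le
  have hke : Even (p - 1) := hp1.tsub_odd odd_one
  obtain ⟨c, r, hcr, hc0, hc, hr⟩ := digits h1 h2 h3
  have hcw : w < 2 * p → c = 1 := by
    intro h
    by_contra hne
    have : p * 2 ≤ p * c := Nat.mul_le_mul_left _ (by omega)
    omega
  have hnd : d * p ≤ n := by
    have := (Nat.le_div_iff_mul_le hd0).1 (hw ▸ h1)
    rwa [mul_comm]
  by_cases H : (∃ W, n + 1 = d * W ∧ Odd W) ∧ r + 2 = p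
  · obtain ⟨⟨W, hW, ho⟩, hr2⟩ := H
    have e0 := div_succ hd0 hW
    have hW1 : W = p * c + (p - 1) := by
      have : 0 < W := ho.pos
      omega
    obtain ⟨k, hk1, hk0, hk⟩ := exists_k hp1
    have hkW := cD hp1 hc0 hk0 hk
    have hkn : d * k ≤ n := by
      have h5 : k + 1 ≤ W := by
        rw [hW1]
        have : p * 1 ≤ p * c := Nat.mul_le_mul_left _ hc0
        have h6 : p ≠ 2 := by rintro rfl; exact absurd hp1 (by decide)
        omega
      have h6 : d * (k + 1) ≤ d * W := Nat.mul_le_mul_left _ h5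
      rw [mul_add] at h6
      omega
    have hv : padicValRat p (ff (Q : ℚ) ((Q : ℚ) ^ 1) n (d * k)) = 1 := by
      rw [v_sp hQ hd hd0 hk1 hkn, add_sub_assoc, hW, corr1 hd hd0 hk1 ho, ← hw, hcr,
        num1 hc0 hc (by omega) hk0 hk (by omega), hW1, if_pos hkW.1, hkW.2,
        cB hp1 hc0 hc hk1 hk (hW1 ▸ ho)]
      norm_num
    exact ⟨k, hk1, hk0, hkn, by rw [hv], by rw [hv]; norm_num, fun _ => hv⟩
  · have hkn : d * (p - 1) ≤ n := le_trans (Nat.mul_le_mul_left _ (by omega)) hnd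
    have hv := v_sp hQ hd hd0 hke hkn
    rw [← hw, hcr, num0 hc0 hc hr, add_sub_assoc] at hv
    have key : 0 ≤ B p Q ((2 * (d * (p - 1)) - (n + 1)) + ((n + 1) - 2 * (d * (p - 1)))) -
        B p Q (n + 1 - d * (p - 1)) ∧
      B p Q ((2 * (d * (p - 1)) - (n + 1)) + ((n + 1) - 2 * (d * (p - 1)))) -
        B p Q (n + 1 - d * (p - 1)) ≤ 1 ∧
      (c = 1 → B p Q ((2 * (d * (p - 1)) - (n + 1)) + ((n + 1) - 2 * (d * (p - 1)))) -
        B p Q (n + 1 - d * (p - 1)) = 0) := by
      rcases Nat.lt_or_ge (r + 2) p with h | h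
      · refine ctot (r := r) hd hd0 hc0 hc (by omega) (fun W hW => ?_) (by omega)
        have := div_succ hd0 hW
        have hW0 : 0 < W := by
          rcases Nat.eq_zero_or_pos W with rfl | h1
          · omega
          · exact h1
        omega
      · rw [corr0 hd hd0 (by omega) hke (fun W h4 h5 => H ⟨⟨W, h4, h5⟩, by omega⟩)]
        exact ⟨le_rfl, by norm_num, fun _ => rfl⟩
    exact ⟨p - 1, hke, by omega, hkn, by rw [hv]; omega, by rw [hv]; omega,
      fun h => by rw [hv, key.2.2 (hcw h), add_zero]⟩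

/-- No first term. -/
theorem corr2 (hd : orderOf (Q : ZMod p) = 2 * d) (hd0 : 0 < d) {N k : ℕ}
    (hke : Even k) (h : ∀ W, N = d * W → ¬ Odd W) :
    B p Q ((2 * (d * k) - N) + (N - 2 * (d * k))) = 0 := by
  by_cases hdN : d ∣ N
  · obtain ⟨W, hW⟩ := hdN
    have e2 : (2 * (d * k) - N) + (N - 2 * (d * k)) = d * ((2 * k - W) + (W - 2 * k)) := by
      rw [hW, mul_add, Nat.mul_sub, Nat.mul_sub]
      congr 2 <;> ring
    have he := Nat.not_odd_iff_even.1 (h W hW)
    have o1 : ¬ Odd ((2 * k - W) + (W - 2 * k)) := by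
      rw [Nat.not_odd_iff_even]
      obtain ⟨a, ha⟩ := he
      obtain ⟨b, hb⟩ := hke
      exact ⟨(2 * b - a) + (a - 2 * b), by omega⟩
    rw [e2, B_mul hd hd0, if_neg o1]
  · have e2 : ¬ d ∣ (2 * (d * k) - N) + (N - 2 * (d * k)) := by
      intro h
      apply hdN
      have h2 : d ∣ 2 * (d * k) := ⟨2 * k, by ring⟩
      rcases Nat.lt_or_ge N (2 * (d * k)) with h3 | h3
      · rw [Nat.sub_eq_zero_of_le h3.le, add_zero] at h
        exact (Nat.dvd_sub_iff_right h3.le h2).1 h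
      · rw [Nat.sub_eq_zero_of_le h3, zero_add] at h
        exact (Nat.dvd_sub_iff_left h3 h2).1 h
    rw [B_not hd hd0 e2]

theorem corr3 (hd : orderOf (Q : ZMod p) = 2 * d) (hd0 : 0 < d) {W k : ℕ} (hke : Even k) (h : Odd W) :
    B p Q ((2 * (d * k) - d * W) + (d * W - 2 * (d * k))) =
      B p Q d + (padicValNat p ((2 * k - W) + (W - 2 * k)) : ℤ) := by
  have e2 : (2 * (d * k) - d * W) + (d * W - 2 * (d * k)) = d * ((2 * k - W) + (W - 2 * k)) := by
    rw [mul_add, Nat.mul_sub, Nat.mul_sub]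
    congr 2 <;> ring
  have o1 : Odd ((2 * k - W) + (W - 2 * k)) := by
    obtain ⟨a, ha⟩ := h
    obtain ⟨b, hb⟩ := hke
    rcases Nat.lt_or_ge W (2 * k) with h | h
    · exact ⟨2 * b - a - 1, by omega⟩
    · exact ⟨a - 2 * b, by omega⟩
  rw [e2, B_mul hd hd0, if_pos o1]

/-- The numeric part, last digit `p - 1`. -/
theorem num2 {c : ℕ} (hc : c < p) :
    (padicValNat p (p * c + (p - 1)).factorial : ℤ) - (padicValNat p (p - 1).factorial : ℤ) -
        (padicValNat p (p * c + (p - 1) - (p - 1)).factorial : ℤ) = 0 := by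
  have h0 := hp.out.two_le
  have e := v_fact (p := p) (c := c) (r := 0) hc (by omega)
  rw [add_zero] at e
  rw [Nat.add_sub_cancel, v_fact hc (by omega), e, v_fact_lt (by omega)]
  ring

/-- **Orthogonal groups of plus type.** -/
theorem exists_plus (hQ : 2 ≤ Q) (hd : orderOf (Q : ZMod p) = 2 * d) (hd0 : 0 < d) {n w : ℕ}
    (hw : w = if d ∣ n ∧ Odd (n / d) then n / d - 1 else n / d)
    (h1 : p ≤ w) (h2 : w < p ^ 2) (h3 : ¬ p ∣ w + 1) :
    ∃ k, Even k ∧ 0 < k ∧ d * k ≤ n ∧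
      1 ≤ padicValRat p (ff (Q : ℚ) ((Q : ℚ) ^ 0) n (d * k)) ∧
      padicValRat p (ff (Q : ℚ) ((Q : ℚ) ^ 0) n (d * k)) ≤ 2 ∧
      (w < 2 * p → padicValRat p (ff (Q : ℚ) ((Q : ℚ) ^ 0) n (d * k)) = 1) := by
  have hp1 := odd_of hd hd0
  have hp2 := hp.out.two_le
  have hke : Even (p - 1) := hp1.tsub_odd odd_one
  obtain ⟨c, r, hcr, hc0, hc, hr⟩ := digits h1 h2 h3
  have hcw : w < 2 * p → c = 1 := by
    intro h
    by_contra hne
    have : p * 2 ≤ p * c := Nat.mul_le_mul_left _ (by omega)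
    omega
  have hpw : p ≤ n / d := by split_ifs at hw <;> omega
  have hnd : d * p ≤ n := by
    have := (Nat.le_div_iff_mul_le hd0).1 hpw
    rwa [mul_comm]
  have hkn : d * (p - 1) ≤ n := le_trans (Nat.mul_le_mul_left _ (by omega)) hnd
  by_cases H : d ∣ n ∧ Odd (n / d)
  · rw [if_pos H] at hw
    obtain ⟨⟨W, hW⟩, ho⟩ := H
    rw [hW, Nat.mul_div_cancel_left _ hd0] at ho hw
    have hW1 : W = p * c + (r + 1) := by
      have : 0 < W := ho.pos
      omega
    have hB : B p Q n = B p Q d := by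
      rw [hW, B_mul hd hd0, if_pos ho, hW1, v_unit (by omega) (by omega)]
      norm_num
    rcases Nat.lt_or_ge (r + 2) p with hr2 | hr2
    · have hv := v_plus hQ hd hd0 hkn
      rw [hB, hW, corr3 hd hd0 hke ho, Nat.mul_div_cancel_left _ hd0, hW1,
        num0 hc0 hc (by omega)] at hv
      have hA := cA hp1 hc0 hc (r := r) (by omega) (by rw [add_assoc, ← hW1]; exact ho)
      rw [add_assoc] at hA
      rw [hW]
      rw [hW1] at hW ⊢
      refine ⟨p - 1, hke, by omega, by rw [← hW]; exact hkn, by rw [hv]; omega, by rw [hv]; omega,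
        fun h => ?_⟩
      rw [hv, hA.2 (hcw h)]
      push_cast
      ring
    · obtain ⟨k, hk1, hk0, hk⟩ := exists_k hp1
      have hr3 : r + 1 = p - 1 := by omega
      rw [hr3] at hW1
      have hkW := cD hp1 hc0 hk0 hk
      have hkn' : d * k ≤ n := by
        rw [hW, hW1]
        exact Nat.mul_le_mul_left _ hkW.1
      have hv : padicValRat p (ff (Q : ℚ) ((Q : ℚ) ^ 0) n (d * k)) = 1 := by
        rw [v_plus hQ hd hd0 hkn', hB, hW, corr3 hd hd0 hk1 ho, Nat.mul_div_cancel_left _ hd0, hW1,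
          num1 hc0 hc (by omega) hk0 hk (by omega), cB hp1 hc0 hc hk1 hk (hW1 ▸ ho)]
        push_cast
        ring
      exact ⟨k, hk1, hk0, hkn', by rw [hv], by rw [hv]; norm_num, fun _ => hv⟩
  · rw [if_neg H] at hw
    have hno : ∀ W, n = d * W → ¬ Odd W := by
      intro W hW ho
      refine H ⟨⟨W, hW⟩, ?_⟩
      rwa [hW, Nat.mul_div_cancel_left _ hd0]
    have hB : B p Q n = 0 := by
      by_cases hdn : d ∣ n
      · obtain ⟨W, hW⟩ := hdn
        rw [hW, B_mul hd hd0, if_neg (hno W hW)]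
      · exact B_not hd hd0 hdn
    have hv : padicValRat p (ff (Q : ℚ) ((Q : ℚ) ^ 0) n (d * (p - 1))) = 1 := by
      rw [v_plus hQ hd hd0 hkn, hB, corr2 hd hd0 hke hno, ← hw, hcr, num0 hc0 hc hr]
      norm_num
    exact ⟨p - 1, hke, by omega, hkn, by rw [hv], by rw [hv]; norm_num, fun _ => hv⟩

/-- Minus type, `d ≥ 2`. -/
theorem exists_minus₂ (hQ : 2 ≤ Q) (hd : orderOf (Q : ZMod p) = 2 * d) (hd2 : 2 ≤ d) {m w : ℕ}
    (hw : w = if d ∣ m + 1 ∧ Even ((m + 1) / d) then (m + 1) / d - 1 else (m + 1) / d)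
    (h1 : p ≤ w) (h2 : w < p ^ 2) (h3 : ¬ p ∣ w + 1) :
    ∃ k, Even k ∧ 0 < k ∧ d * k ≤ m ∧
      1 ≤ padicValRat p (ff (Q : ℚ) ((Q : ℚ) ^ 2) m (d * k)) ∧
      padicValRat p (ff (Q : ℚ) ((Q : ℚ) ^ 2) m (d * k)) ≤ 2 ∧
      (w < 2 * p → padicValRat p (ff (Q : ℚ) ((Q : ℚ) ^ 2) m (d * k)) = 1) := by
  have hd0 : 0 < d := by omega
  have hp1 := odd_of hd hd0
  have hp2 := hp.out.two_le
  have hke : Even (p - 1) := hp1.tsub_odd odd_one
  obtain ⟨c, r, hcr, hc0, hc, hr⟩ := digits h1 h2 h3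
  have hcw : w < 2 * p → c = 1 := by
    intro h
    by_contra hne
    have : p * 2 ≤ p * c := Nat.mul_le_mul_left _ (by omega)
    omega
  have hpw : p ≤ (m + 1) / d := by split_ifs at hw <;> omega
  have hnd : d * p ≤ m + 1 := by
    have := (Nat.le_div_iff_mul_le hd0).1 hpw
    rwa [mul_comm]
  have hkn : d * (p - 1) ≤ m := by
    have h : d * (p - 1) + d ≤ m + 1 := by
      rw [← Nat.mul_succ]
      exact le_trans (Nat.mul_le_mul_left _ (by omega)) hnd
    omega
  have hB1 : B p Q 1 = 0 := B_not hd hd0 (fun h => absurd (Nat.le_of_dvd one_pos h) (by omega))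
  have hBk : ∀ k, 0 < k → B p Q (d * k - 1) = 0 := by
    intro k hk
    refine B_not hd hd0 fun h => ?_
    have h5 : 1 ≤ d * k := Nat.mul_pos hd0 hk
    have h6 : d ∣ 1 := (Nat.dvd_sub_iff_right h5 (Dvd.intro _ rfl)).1 h
    exact absurd (Nat.le_of_dvd one_pos h6) (by omega)
  have hnn : ∀ W, m + 1 = d * W → ∀ W', m + 2 = d * W' → False := by
    intro W hW W' hW'
    have h5 : d ∣ 1 := (Nat.dvd_add_right (⟨W, hW⟩ : d ∣ m + 1)).1 ⟨W', hW'⟩
    exact absurd (Nat.le_of_dvd one_pos h5) (by omega)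
  by_cases H : d ∣ m + 1 ∧ Even ((m + 1) / d)
  · rw [if_pos H] at hw
    obtain ⟨⟨W, hW⟩, he⟩ := H
    rw [hW, Nat.mul_div_cancel_left _ hd0] at he hw
    have hW1 : W = p * c + (r + 1) := by omega
    have hA : A p Q (m + 1) = B p Q d := by
      rw [hW, A_mul hQ hd hd0 (by omega), if_pos he, hW1, v_unit (by omega) (by omega)]
      norm_num
    have hpc : p * 1 ≤ p * c := Nat.mul_le_mul_left _ hc0
    have hA2 : A p Q (m + 1 - d * (p - 1)) = B p Q d + (padicValNat p (W - (p - 1)) : ℤ) := by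
      rw [hW, ← Nat.mul_sub, A_mul hQ hd hd0 (by omega), if_pos (he.tsub hke)]
    have hv : padicValRat p (ff (Q : ℚ) ((Q : ℚ) ^ 2) m (d * (p - 1))) = 1 := by
      rw [v_minus hQ hd hd0 hke (by omega) hkn, hA, hA2, hB1, hBk _ (by omega), add_sub_assoc _ _ (B p Q (m + 2 - _)),
        corr0 hd hd0 (by omega) hke (fun W' h _ => hnn W hW W' h), hW, Nat.mul_div_cancel_left _ hd0, hW1]
      rcases Nat.lt_or_ge (r + 2) p with h | h
      · have h5 := cC (p := p) hc0 h
        rw [add_assoc] at h5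
        rw [num0 hc0 hc (by omega), h5]
        norm_num
      · have hr3 : r + 1 = p - 1 := by omega
        rw [hr3, num2 hc, Nat.add_sub_cancel, v_p hc0 hc]
        norm_num
    exact ⟨p - 1, hke, by omega, hkn, by rw [hv], by rw [hv]; norm_num, fun _ => hv⟩
  · rw [if_neg H] at hw
    have hA : A p Q (m + 1) = 0 := by
      by_cases hdn : d ∣ m + 1
      · obtain ⟨W, hW⟩ := hdn
        have hW0 : 0 < W := by
          rcases Nat.eq_zero_or_pos W with rfl | h1
          · omega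
          · exact h1
        rw [hW, A_mul hQ hd hd0 hW0, if_neg]
        intro he
        refine H ⟨⟨W, hW⟩, ?_⟩
        rwa [hW, Nat.mul_div_cancel_left _ hd0]
      · exact A_not hQ hd hdn
    by_cases H2 : (∃ W, m + 2 = d * W ∧ Odd W) ∧ r + 2 = p
    · obtain ⟨⟨W, hW, ho⟩, hr2⟩ := H2
      have e0 := div_succ hd0 hW
      have hW1 : W = p * c + (p - 1) := by
        have : 0 < W := ho.pos
        omega
      obtain ⟨k, hk1, hk0, hk⟩ := exists_k hp1
      have hkW := cD hp1 hc0 hk0 hk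
      have hkn : d * k ≤ m := by
        have h5 : k + 1 ≤ W := by
          rw [hW1]
          have : p * 1 ≤ p * c := Nat.mul_le_mul_left _ hc0
          have h6 : p ≠ 2 := by rintro rfl; exact absurd hp1 (by decide)
          omega
        have h6 : d * (k + 1) ≤ d * W := Nat.mul_le_mul_left _ h5
        rw [mul_add] at h6
        omega
      have hA2 : A p Q (m + 1 - d * k) = 0 := by
        refine A_not hQ hd fun h => ?_
        obtain ⟨W', hW'⟩ := (Nat.dvd_sub_iff_left (by omega) (Dvd.intro _ rfl)).1 h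
        exact hnn W' hW' W hW
      have hv : padicValRat p (ff (Q : ℚ) ((Q : ℚ) ^ 2) m (d * k)) = 1 := by
        rw [v_minus hQ hd hd0 hk1 hk0 hkn, hA, hA2, hB1, hBk _ hk0, add_sub_assoc _ _ (B p Q (m + 2 - _)),
          hW, corr1 hd hd0 hk1 ho, ← hw, hcr,
          num1 hc0 hc (by omega) hk0 hk (by omega), hW1, if_pos hkW.1, hkW.2,
          cB hp1 hc0 hc hk1 hk (hW1 ▸ ho)]
        norm_num
      exact ⟨k, hk1, hk0, hkn, by rw [hv], by rw [hv]; norm_num, fun _ => hv⟩
    · have hA2 : A p Q (m + 1 - d * (p - 1)) = 0 := by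
        by_cases hdn : d ∣ m + 1
        · obtain ⟨W, hW⟩ := hdn
          have hWw : W = w := by rw [hw, hW, Nat.mul_div_cancel_left _ hd0]
          rw [hW, ← Nat.mul_sub, A_mul hQ hd hd0 (by omega), if_neg]
          intro he
          refine H ⟨⟨W, hW⟩, ?_⟩
          rw [hW, Nat.mul_div_cancel_left _ hd0]
          obtain ⟨a, ha⟩ := he
          obtain ⟨b, hb⟩ := hke
          exact ⟨a + b, by omega⟩
        · exact A_not hQ hd fun h => hdn ((Nat.dvd_sub_iff_left (by omega) (Dvd.intro _ rfl)).1 h)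
      have hv := v_minus hQ hd hd0 hke (by omega) hkn
      rw [hA, hA2, hB1, hBk _ (by omega), ← hw, hcr, num0 hc0 hc hr,
        add_sub_assoc _ _ (B p Q (m + 2 - _))] at hv
      have key : 0 ≤ B p Q ((2 * (d * (p - 1)) - (m + 2)) + ((m + 2) - 2 * (d * (p - 1)))) -
          B p Q (m + 2 - d * (p - 1)) ∧
        B p Q ((2 * (d * (p - 1)) - (m + 2)) + ((m + 2) - 2 * (d * (p - 1)))) -
          B p Q (m + 2 - d * (p - 1)) ≤ 1 ∧
        (c = 1 → B p Q ((2 * (d * (p - 1)) - (m + 2)) + ((m + 2) - 2 * (d * (p - 1)))) -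
          B p Q (m + 2 - d * (p - 1)) = 0) := by
        rcases Nat.lt_or_ge (r + 2) p with h | h
        · refine ctot (r := r) hd hd0 hc0 hc (by omega) (fun W hW => ?_) (by omega)
          have := div_succ hd0 hW
          have hW0 : 0 < W := by
            rcases Nat.eq_zero_or_pos W with rfl | h1
            · omega
            · exact h1
          omega
        · rw [corr0 hd hd0 (by omega) hke (fun W h4 h5 => H2 ⟨⟨W, h4, h5⟩, by omega⟩)]
          exact ⟨le_rfl, by norm_num, fun _ => rfl⟩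
      refine ⟨p - 1, hke, by omega, hkn, by rw [hv]; omega, by rw [hv]; omega, fun h => ?_⟩
      rw [hv, key.2.2 (hcw h)]
      norm_num

/-- Minus type, `d = 1`. -/
theorem exists_minus₁ (hQ : 2 ≤ Q) (hd : orderOf (Q : ZMod p) = 2 * 1) {m w : ℕ}
    (hw : w = if Even (m + 1) then m else m + 1)
    (h1 : p ≤ w) (h2 : w < p ^ 2) (h3 : ¬ p ∣ w + 1) (h4 : ¬ (p = 3 ∧ m = 3)) :
    ∃ k, Even k ∧ 0 < k ∧ 1 * k ≤ m ∧
      1 ≤ padicValRat p (ff (Q : ℚ) ((Q : ℚ) ^ 2) m (1 * k)) ∧
      padicValRat p (ff (Q : ℚ) ((Q : ℚ) ^ 2) m (1 * k)) ≤ 2 ∧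
      (w < 2 * p → padicValRat p (ff (Q : ℚ) ((Q : ℚ) ^ 2) m (1 * k)) = 1) := by
  have hd0 : 0 < 1 := one_pos
  have hp1 := odd_of hd hd0
  have hp2 := hp.out.two_le
  have hp3 : p ≠ 2 := by rintro rfl; exact absurd hp1 (by decide)
  have hke : Even (p - 1) := hp1.tsub_odd odd_one
  obtain ⟨c, r, hcr, hc0, hc, hr⟩ := digits h1 h2 h3
  have hpc : p * 1 ≤ p * c := Nat.mul_le_mul_left _ hc0
  have hcw : w < 2 * p → c = 1 := by
    intro h
    by_contra hne
    have : p * 2 ≤ p * c := Nat.mul_le_mul_left _ (by omega)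
    omega
  have hBk : ∀ k, 0 < k → Even k → B p Q (1 * k - 1) = B p Q 1 + (padicValNat p (k - 1) : ℤ) := by
    intro k hk he
    rw [B_div hd hd0 (u := k - 1) (by omega), if_pos]
    obtain ⟨a, ha⟩ := he
    exact ⟨a - 1, by omega⟩
  by_cases H : Even (m + 1)
  · rw [if_pos H] at hw
    have hm : m + 1 = p * c + (r + 1) := by omega
    have ho : Odd (m + 2) := H.add_one
    have hA : A p Q (m + 1) = B p Q 1 := by
      have := A_mul hQ hd hd0 (u := m + 1) (by omega)
      rw [one_mul, if_pos H, hm, v_unit (by omega) (by omega)] at this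
      rw [hm, this]
      norm_num
    have hA2 : ∀ k, Even k → k ≤ m → A p Q (m + 1 - 1 * k) = B p Q 1 + (padicValNat p (m + 1 - k) : ℤ) := by
      intro k hk hkm
      have := A_mul hQ hd hd0 (u := m + 1 - k) (by omega)
      rw [one_mul, if_pos (H.tsub hk)] at this
      rw [one_mul, this]
    have main : ∀ k, Even k → 0 < k → k ≤ m →
        padicValRat p (ff (Q : ℚ) ((Q : ℚ) ^ 2) m (1 * k)) =
          ((padicValNat p (m + 1).factorial : ℤ) - (padicValNat p k.factorial : ℤ) -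
            (padicValNat p (m + 1 - k).factorial : ℤ)) + (padicValNat p (m + 1 - k) : ℤ) +
            (padicValNat p (k - 1) : ℤ) + ((padicValNat p ((2 * k - (m + 2)) + ((m + 2) - 2 * k)) : ℤ) -
            (padicValNat p (m + 2 - k) : ℤ)) := by
      intro k hk1 hk0 hkm
      have e := corr1 hd hd0 (W := m + 2) hk1 ho
      rw [if_pos (show k ≤ m + 2 by omega), one_mul (m + 2)] at e
      rw [v_minus hQ hd hd0 hk1 hk0 (by omega), hA, hA2 k hk1 hkm, hBk k hk0 hk1,
        add_sub_assoc _ _ (B p Q (m + 2 - _)), e, Nat.div_one]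
      ring
    rcases Nat.lt_or_ge (r + 3) p with hr3 | hr3
    · -- `k = p - 1`
      have hkn : p - 1 ≤ m := by omega
      have hv := main (p - 1) hke (by omega) hkn
      have h5 := cC (p := p) hc0 (r := r) (by omega)
      rw [add_assoc, ← hm] at h5
      have h6 := cC (p := p) hc0 (r := r + 1) (by omega)
      have e6 : p * c + (r + 1) + 1 = m + 2 := by omega
      rw [e6] at h6
      have h7 := cA hp1 hc0 hc (r := r + 1) (by omega) (by rw [e6]; exact ho)
      rw [e6] at h7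
      have h8 : padicValNat p (p - 1 - 1) = 0 := v_lt (by omega) (by omega)
      have h9 := num0 (p := p) hc0 hc (r := r + 1) (by omega)
      rw [← hm] at h9
      rw [h5, h6, h8, h9] at hv
      refine ⟨p - 1, hke, by omega, by omega, by rw [hv]; omega, by rw [hv]; omega, fun h => ?_⟩
      rw [hv, h7.2 (hcw h)]
      norm_num
    · rcases Nat.lt_or_ge (r + 2) p with hr2 | hr2
      · -- the second choice
        have hr4 : r + 1 = p - 2 := by omega
        have hp5 : 5 ≤ p := by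
          by_contra hlt
          have hp4 : p = 3 ∨ p = 4 := by omega
          rcases hp4 with rfl | rfl
          · have hr0 : r = 0 := by omega
            subst hr0
            obtain ⟨a, ha⟩ := H
            apply h4
            refine ⟨rfl, ?_⟩
            omega
          · exact absurd hp1 (by decide)
        obtain ⟨k, hk1, hk0, hk⟩ := exists_k hp1
        have hkW := cD hp1 hc0 hk0 hk
        have e6 : p * c + (p - 1) = m + 2 := by omega
        rw [e6] at hkW
        have hB := cB hp1 hc0 hc hk1 hk (by rw [e6]; exact ho)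
        rw [e6] at hB
        have hkm : k ≤ m := by omega
        have u1 : padicValNat p (m + 1 - k) = 0 := by
          obtain ⟨c, rfl⟩ : ∃ e, c = e + 1 := ⟨c - 1, by omega⟩
          rcases hk with hk | hk
          · rw [show m + 1 - k = p * (c + 1) + (p - 2 - k) by omega, v_unit (by omega) (by omega)]
          · rw [show m + 1 - k = p * c + (p + (p - 2) - k) by rw [mul_add] at hm; omega,
              v_unit (by omega) (by omega)]
        have u2 : padicValNat p (k - 1) = 0 := by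
          rcases hk with hk | hk
          · rw [v_lt (by omega) (by omega)]
          · rw [show k - 1 = p * 1 + (k - 1 - p) by omega, v_unit (by omega) (by omega)]
        have hv : padicValRat p (ff (Q : ℚ) ((Q : ℚ) ^ 2) m (1 * k)) = 1 := by
          rw [main k hk1 hk0 hkm, u1, u2, hkW.2, hB, hm,
            num1 hc0 hc (by omega) hk0 hk (by omega)]
          norm_num
        exact ⟨k, hk1, hk0, by omega, by rw [hv], by rw [hv]; norm_num, fun _ => hv⟩
      · have hr4 : r + 1 = p - 1 := by omega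
        rw [hr4] at hm
        have hkn : p - 1 ≤ m := by omega
        have e7 : (2 * (p - 1) - (m + 2)) + ((m + 2) - 2 * (p - 1)) = p * (c - 1) + 2 := by
          obtain ⟨c, rfl⟩ : ∃ e, c = e + 1 := ⟨c - 1, by omega⟩
          rw [mul_add] at hm
          rw [Nat.add_sub_cancel]
          omega
        have e8 : m + 2 - (p - 1) = p * c + 1 := by omega
        have e9 : m + 1 - (p - 1) = p * c := by omega
        have hv : padicValRat p (ff (Q : ℚ) ((Q : ℚ) ^ 2) m (1 * (p - 1))) = 1 := by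
          have n2 := num2 (p := p) hc
          rw [← hm] at n2
          rw [main _ hke (by omega) hkn, n2, e7, e8, e9, v_p hc0 hc, v_unit (by omega) (by omega),
            v_unit (by omega) (by omega), show p - 1 - 1 = p - 2 by omega, v_lt (by omega) (by omega)]
          norm_num
        exact ⟨p - 1, hke, by omega, by omega, by rw [hv], by rw [hv]; norm_num, fun _ => hv⟩
  · rw [if_neg H] at hw
    have hkn : p - 1 ≤ m := by omega
    have hA : A p Q (m + 1) = 0 := by
      have := A_mul hQ hd hd0 (u := m + 1) (by omega)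
      rwa [one_mul, if_neg H] at this
    have hA2 : A p Q (m + 1 - 1 * (p - 1)) = 0 := by
      have := A_mul hQ hd hd0 (u := m + 1 - (p - 1)) (by omega)
      rw [one_mul, if_neg] at this
      · rw [one_mul, this]
      · intro he
        obtain ⟨a, ha⟩ := he
        obtain ⟨b, hb⟩ := hke
        exact H ⟨a + b, by omega⟩
    have hv : padicValRat p (ff (Q : ℚ) ((Q : ℚ) ^ 2) m (1 * (p - 1))) = 1 := by
      rw [v_minus hQ hd hd0 hke (by omega) (by omega), hA, hA2, hBk _ (by omega) hke,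
        add_sub_assoc _ _ (B p Q (m + 2 - _)),
        corr0 hd hd0 (by omega) hke (fun W h5 h6 => H (by
          rw [one_mul] at h5
          obtain ⟨a, ha⟩ := h6
          exact ⟨a, by omega⟩)), Nat.div_one, ← hw, hcr, num0 hc0 hc hr,
        show p - 1 - 1 = p - 2 by omega, v_lt (by omega) (by omega)]
      norm_num
    exact ⟨p - 1, hke, by omega, by omega, by rw [hv], by rw [hv]; norm_num, fun _ => hv⟩

/-- **Orthogonal groups of minus type**, natural dimension `2 (m + 1)`. -/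
theorem exists_minus (hQ : 2 ≤ Q) (hd : orderOf (Q : ZMod p) = 2 * d) (hd0 : 0 < d) {m w : ℕ}
    (hw : w = if d ∣ m + 1 ∧ Even ((m + 1) / d) then (m + 1) / d - 1 else (m + 1) / d)
    (h1 : p ≤ w) (h2 : w < p ^ 2) (h3 : ¬ p ∣ w + 1) (h4 : ¬ (p = 3 ∧ d = 1 ∧ m = 3)) :
    ∃ k, Even k ∧ 0 < k ∧ d * k ≤ m ∧
      1 ≤ padicValRat p (ff (Q : ℚ) ((Q : ℚ) ^ 2) m (d * k)) ∧
      padicValRat p (ff (Q : ℚ) ((Q : ℚ) ^ 2) m (d * k)) ≤ 2 ∧
      (w < 2 * p → padicValRat p (ff (Q : ℚ) ((Q : ℚ) ^ 2) m (d * k)) = 1) := by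
  rcases Nat.lt_or_ge d 2 with h | h
  · obtain rfl : d = 1 := by omega
    refine exists_minus₁ hQ hd ?_ h1 h2 h3 (fun h => h4 ⟨h.1, rfl, h.2⟩)
    rw [hw, Nat.div_one]
    simp
  · exact exists_minus₂ hQ hd h hw h1 h2 h3

end choice

end Cfsg.Agent.H35.HT.Val
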